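import Mathlib

/-!
Bounds for the class numbers of some alternating groups.
-/

set_option autoImplicit false
set_option maxRecDepth 100000
set_option synthInstance.maxSize 1000

namespace CfsgLib.KCl

open Equiv Equiv.Perm

/-- The cycle types of the even permutations of degree at most `7`. -/
def tys : List (Multiset ℕ) := [0, {3}, {2, 2}, {5}, {3, 3}, {4, 2}, {7}, {3, 2, 2}]

theorem mem_tys {M : Multiset ℕ} (h : (M.sum + M.card) % 2 = 0) (h1 : M.sum ≤ 7)
    (h2 : ∀ a ∈ M, 2 ≤ a) : M ∈ tys := by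
  induction M using Quotient.inductionOn with | _ l => ?_
  rcases l with _ | ⟨a, _ | ⟨b, _ | ⟨c, _ | ⟨d, l⟩⟩⟩⟩ <;>
    simp only [Multiset.quot_mk_to_coe, Multiset.mem_coe, List.forall_mem_cons, Multiset.sum_coe,
      List.sum_cons, List.sum_nil, Multiset.coe_card, List.length_cons, List.length_nil] at h h1 h2 ⊢
  · decide
  · exact (by decide : ∀ a < 8, 2 ≤ a → a % 2 = 1 → ([a] : Multiset ℕ) ∈ tys) a (by omega) h2.1
      (by omega)
  · exact (by decide : ∀ a < 6, ∀ b < 8 - a, 2 ≤ a ∧ 2 ≤ b ∧ (a + b) % 2 = 0 →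
      ([a, b] : Multiset ℕ) ∈ tys) a (by omega) b (by omega) (by omega)
  · exact (by decide : ∀ a < 4, ∀ b < 4, ∀ c < 4, 2 ≤ a ∧ 2 ≤ b ∧ 2 ≤ c ∧ a + b + c = 7 →
      ([a, b, c] : Multiset ℕ) ∈ tys) a (by omega) b (by omega) c (by omega) (by omega)
  · omega

theorem card_alt_le {n : ℕ} (hn : n ≤ 7) (L : List (Perm (Fin n) × Perm (Fin n)))
    (h : ∀ p ∈ L, sign p.2 = -1) (h' : ∀ M ∈ tys, M.sum ≤ n → M ∈ L.map (·.1.cycleType)) :
    Nat.card (ConjClasses (alternatingGroup (Fin n))) ≤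
      (L.map (·.1) ∪ L.map fun p => p.2 * p.1 * p.2⁻¹).length := by
  classical
  generalize hM : (L.map (·.1) ∪ L.map fun p => p.2 * p.1 * p.2⁻¹) = M
  let f : Fin M.length → ConjClasses (alternatingGroup (Fin n)) := fun i =>
    if e : sign M[i] = 1 then ConjClasses.mk ⟨_, e⟩ else 1
  refine (Nat.card_le_card_of_surjective f fun κ => ?_).trans (by simp)
  obtain ⟨x, rfl⟩ := ConjClasses.mk_surjective κ
  have hx := mem_alternatingGroup.mp x.2
  have key : ∀ a ∈ M, ∀ g, sign g = 1 → g * a * g⁻¹ = x.1 → ∃ i, f i = ConjClasses.mk x :=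
    fun a ha g hg e => by
      obtain ⟨i, rfl⟩ := List.mem_iff_get.mp ha
      rw [← e] at hx
      exact ⟨i, (dif_pos (by simpa [hg] using hx)).trans (ConjClasses.mk_eq_mk_iff_isConj.mpr
        (isConj_iff.mpr ⟨⟨g, hg⟩, Subtype.ext e⟩))⟩
  have h1 : x.1.cycleType.sum ≤ n := by simpa using sum_cycleType_le x.1
  rw [sign_of_cycleType, neg_one_pow_eq_one_iff_even (by decide), Nat.even_iff] at hx
  obtain ⟨p, hp, e⟩ := List.mem_map.mp
    (h' _ (mem_tys hx (h1.trans hn) fun _ => two_le_of_mem_cycleType) h1)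
  obtain ⟨g, hg⟩ := isConj_iff.mp (isConj_iff_cycleType_eq.mpr e)
  rcases Int.units_eq_one_or (sign g) with a | a
  · exact key _ (hM ▸ List.mem_union_iff.mpr (.inl (List.mem_map_of_mem hp))) g a hg
  · exact key _ (hM ▸ List.mem_union_iff.mpr (.inr (List.mem_map_of_mem hp))) (g * p.2⁻¹)
      (by simp [a, h p hp]) (by rw [← hg]; group)

theorem card_alt_five : Nat.card (ConjClasses (alternatingGroup (Fin 5))) ≤ 8 :=
  (card_alt_le (by decide) [(1, swap 0 1), (c[0, 1, 2], swap 3 4), (c[0, 1] * c[2, 3], swap 0 1),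
    (c[0, 1, 2, 3, 4], swap 0 1)] (by simp) (by decide +kernel)).trans (by decide +kernel)

theorem card_alt_six : Nat.card (ConjClasses (alternatingGroup (Fin 6))) ≤ 8 :=
  (card_alt_le (by decide) [(1, swap 0 1), (c[0, 1, 2], swap 3 4), (c[0, 1] * c[2, 3], swap 0 1),
    (c[0, 1, 2, 3, 4], swap 0 1), (c[0, 1, 2] * c[3, 4, 5], swap 0 1),
    (c[0, 1, 2, 3] * c[4, 5], swap 4 5)] (by simp) (by decide +kernel)).trans (by decide +kernel)

theorem card_alt_seven : Nat.card (ConjClasses (alternatingGroup (Fin 7))) ≤ 9 :=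
  (card_alt_le (by decide) [(1, swap 0 1), (c[0, 1, 2], swap 3 4), (c[0, 1] * c[2, 3], swap 0 1),
    (c[0, 1, 2, 3, 4], swap 5 6), (c[0, 1, 2] * c[3, 4, 5], swap 0 3 * swap 1 4 * swap 2 5),
    (c[0, 1, 2, 3] * c[4, 5], swap 4 5), (c[0, 1, 2, 3, 4, 5, 6], swap 0 1),
    (c[0, 1, 2] * c[3, 4] * c[5, 6], swap 3 4)] (by simp) (by decide +kernel)).trans
      (by decide +kernel)

end CfsgLib.KCl
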