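import Mathlib
import Cfsg.Agent.Lib.ChTab.Enum3

/-!
A search for the possible lists of centralizer orders of a group with few conjugacy classes.
-/

set_option autoImplicit false

namespace CfsgLib.KCl

open CfsgLib.ChTab

/-- Triples. -/
abbrev T3 := ℕ × ℕ × ℕ

/-- `if b then x else y`. -/
noncomputable abbrev cnd (b x y : Bool) : Bool := Bool.rec y x b

/-- Trial division by odd numbers. -/
noncomputable def mfA (n fuel : ℕ) : ℕ → ℕ :=
  Nat.rec (fun _ => 0) (fun _ ih d => Bool.rec (Bool.rec (ih (Nat.add d 2)) d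
    (Nat.beq (Nat.mod n d) 0)) n (Nat.blt n (Nat.mul d d))) fuel

/-- The least prime factor (or `0`). -/
noncomputable def mf (n : ℕ) : ℕ := Bool.rec (mfA n n 3) 2 (Nat.beq (Nat.mod n 2) 0)

/-- Removal of the factors `p` (or `0`). -/
noncomputable def strip (p fuel : ℕ) : ℕ → ℕ :=
  Nat.rec (fun _ => 0) (fun _ ih c => Bool.rec c (ih (Nat.div c p)) (Nat.beq (Nat.mod c p) 0)) fuel

/-- A power of `p` dividing `c`. -/
noncomputable def ppw (p c fuel : ℕ) : ℕ → ℕ :=
  Nat.rec (fun r => r) (fun _ ih r => Bool.rec r (ih (Nat.mul r p))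
    (Nat.beq (Nat.mod c (Nat.mul r p)) 0)) fuel

/-- Membership. -/
noncomputable def memN (a : ℕ) (l : List ℕ) : Bool :=
  List.rec false (fun b _ ih => Bool.rec ih true (Nat.beq a b)) l

/-- Membership. -/
noncomputable def memT (p q c : ℕ) (l : List T3) : Bool :=
  List.rec false (fun b _ ih => Prod.rec (fun p' x => Prod.rec (fun q' c' =>
    Bool.rec ih true (Nat.beq c c' && Nat.beq p p' && Nat.beq q q')) x) b) l

/-- The distinct first coordinates. -/
noncomputable def ddp (l : List T3) : List ℕ → (List ℕ → Bool) → Bool :=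
  List.rec (fun a k => k a) (fun b _ ih a k => Prod.rec (fun p _ =>
    Bool.rec (ih (p :: a) k) (ih a k) (memN p a)) b) l

/-- The number of triples `(p, 2, c)` with `4 ∤ c`. -/
noncomputable def cE (p : ℕ) (l : List T3) : ℕ :=
  List.rec 0 (fun b _ ih => Prod.rec (fun p' x => Prod.rec (fun q c => Bool.rec ih
    (Bool.rec (Nat.succ ih) ih (Nat.beq (Nat.mod c 4) 0)) (Nat.beq p p' && Nat.beq q 2)) x) b) l

/-- Is there a triple `(p, 2, c)` with `4 ∣ c`? -/
noncomputable def cN (p : ℕ) (l : List T3) : ℕ :=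
  List.rec 0 (fun b _ ih => Prod.rec (fun p' x => Prod.rec (fun q c => Bool.rec ih
    (Bool.rec ih 1 (Nat.beq (Nat.mod c 4) 0)) (Nat.beq p p' && Nat.beq q 2)) x) b) l

/-- A lower bound for the number of classes which are still needed. -/
noncomputable def ndp (ps : List ℕ) (l : List T3) : ℕ :=
  List.rec 0 (fun p _ ih => Nat.add ih (Nat.rec 1 (fun n _ => Nat.succ n)
    (Nat.add (cE p l) (cN p l)))) ps

/-- All ways to choose some of the triples with first coordinate `p`. -/
noncomputable def spl (p : ℕ) (k : List T3 → List T3 → Bool) (l : List T3) :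
    List T3 → List T3 → List T3 → Bool :=
  List.rec (fun _ S r => k S r) (fun b _ ih ban S r => Prod.rec (fun p' x => Prod.rec (fun q c =>
    cnd (Nat.beq p p') (cnd (cnd (memT p' q c ban) true (ih ban ((p', q, c) :: S) r))
      (ih ((p', q, c) :: ban) S ((p', q, c) :: r)) false) (ih ban S ((p', q, c) :: r))) x) b) l

/-- Removal of the triples with first coordinate `p`. -/
noncomputable def flt (p : ℕ) (k : List T3 → ℕ → Bool) (l : List T3) : List T3 → ℕ → Bool :=
  List.rec k (fun b _ ih a n => Prod.rec (fun p' x =>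
    cnd (Nat.beq p p') (ih a (Nat.succ n)) (ih ((p', x) :: a) n)) b) l

/-- The lcm of the last coordinates. -/
noncomputable def lcmS (l : List T3) : ℕ :=
  List.rec 1 (fun b _ ih => Prod.rec (fun _ x => Prod.rec (fun _ c => Nat.lcm c ih) x) b) l

/-- The sum of the `c / c'` over the triples with middle coordinate `q`. -/
noncomputable def smq (c q : ℕ) (l : List T3) : ℕ :=
  List.rec 1 (fun b _ ih => Prod.rec (fun _ x => Prod.rec (fun q' c' =>
    Bool.rec ih (Nat.add ih (Nat.div c c')) (Nat.beq q q')) x) b) l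

/-- The number of triples with middle coordinate `q`. -/
noncomputable def cnq (q : ℕ) (l : List T3) : ℕ :=
  List.rec 0 (fun b _ ih => Prod.rec (fun _ x => Prod.rec (fun q' _ =>
    Bool.rec ih (Nat.succ ih) (Nat.beq q q')) x) b) l

/-- The length. -/
noncomputable def len (l : List T3) : ℕ := List.rec 0 (fun _ _ ih => Nat.succ ih) l

/-- The local conditions. -/
noncomputable def okP (c : ℕ) (S l : List T3) : Bool :=
  List.rec true (fun b _ ih => Prod.rec (fun _ x => Prod.rec (fun q c' =>
    cnd (Nat.beq (Nat.mod (smq c q S) (ppw q c 64 1)) 0 && (Nat.beq (Nat.mod c' (Nat.mul q q)) 0 ||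
      Nat.beq (Nat.mod (Nat.sub q 1) (cnq q S)) 0)) ih false) x) b) l

/-- `f` holds for all `c pⁱ` in `[lo, hi]`. -/
noncomputable def pw (f : ℕ → Bool) (p lo hi fuel : ℕ) : ℕ → Bool :=
  Nat.rec (fun _ => false) (fun _ ih c => cnd (Nat.blt hi c) true
    (cnd (cnd (Nat.blt c lo) true (f c)) (frc (Nat.mul c p) ih) false)) fuel

/-- `f` holds for all `p + 2 j` with square at most `hi`. -/
noncomputable def lp (f : ℕ → Bool) (hi fuel : ℕ) : ℕ → Bool :=
  Nat.rec (fun _ => false) (fun _ ih p => cnd (Nat.blt hi (Nat.mul p p)) true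
    (cnd (f p) (frc (Nat.add p 2) ih) false)) fuel

/-- `f` holds below `n`. -/
noncomputable def rng (f : ℕ → Bool) (n : ℕ) : Bool :=
  Nat.rec true (fun i ih => cnd (f i) ih false) n

/-- `f` holds on `l`. -/
noncomputable def allN (f : ℕ → Bool) (l : List ℕ) : Bool :=
  List.rec true (fun a _ ih => cnd (f a) ih false) l

/-- The number of members of `ps` dividing `c`. -/
noncomputable def cdv (c : ℕ) (ps : List ℕ) : ℕ :=
  List.rec 0 (fun p _ ih => Bool.rec ih (Nat.succ ih) (Nat.beq (Nat.mod c p) 0)) ps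

/-- Repetition. -/
noncomputable def rep (x : T3) (a : List T3) (t : ℕ) : List T3 := Nat.rec a (fun _ ih => x :: ih) t

/-- The states of the search. -/
structure St where
  /-- number of remaining classes -/
  m : ℕ
  /-- numerator -/
  n : ℕ
  /-- denominator -/
  d : ℕ
  /-- last centralizer order -/
  lc : ℕ
  /-- last type -/
  lt : ℕ
  /-- lcm of the centralizer orders -/
  L : ℕ
  /-- product of the finished primes -/
  sg : ℕ
  /-- demands -/
  pd : List T3
  /-- classes found so far -/
  ac : List T3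

section
variable (K : ℕ) (r : St → Bool) (m num den lc lt L sg : ℕ) (pd ac : List T3)

/-- A class of `p`-elements. -/
noncomputable def tryP (p : ℕ) (S rest : List T3) (c : ℕ) : Bool :=
  cnd (Nat.beq c lc && Nat.blt p lt) true (cnd (okP c S S)
    (cnd (Nat.beq (Nat.mod c (Nat.mul p p)) 0)
      (r ⟨Nat.sub m 1, Nat.sub (Nat.mul num c) den, Nat.mul den c, c, p, Nat.lcm L c, sg, rest,
        (c, p, 0) :: ac⟩)
      (cnd (Nat.beq (Nat.mod L (Nat.mul p p)) 0) true (flt p (fun np tot => rng (fun i =>
        frc (Nat.succ i) fun t => cnd (Nat.beq (Nat.mod (Nat.sub p 1) t) 0 &&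
          Nat.ble (Nat.mul 2 t) (Nat.sub p 1) && Nat.beq tot (Nat.mul t (len S)) &&
          Nat.blt (Nat.mul den t) (Nat.mul num c) &&
          (Nat.blt p c || Nat.ble (Nat.add (Nat.div (Nat.sub p 1) t) t) K))
        (r ⟨Nat.sub m t, Nat.sub (Nat.mul num c) (Nat.mul den t), Nat.mul den c, c, p,
          Nat.lcm L c, Nat.mul sg p, np, rep (c, p, 0) ac t⟩) true) m) pd [] 0))) true)

/-- A class of elements whose order has two prime factors. -/
noncomputable def tryM (c : ℕ) : Bool :=
  frc (mf c) fun p => frc (strip p 64 c) fun w => cnd (Nat.beq w 1) true (frc (mf w) fun q =>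
    frc (strip q 64 w) fun s => cnd (Nat.beq s 1)
      (cnd (Nat.beq (Nat.mod sg p) 0 || Nat.beq (Nat.mod sg q) 0 || (Nat.beq c lc && Nat.blt 0 lt))
        true (r ⟨Nat.sub m 1, Nat.sub (Nat.mul num c) den, Nat.mul den c, c, 0, Nat.lcm L c, sg,
          (p, q, c) :: (q, p, c) :: pd, (c, p, q) :: ac⟩))
      (Nat.blt 0 s && Nat.blt 0 q))

/-- The classes with centralizers of prime power order. -/
noncomputable def atom (lo hi p : ℕ) : Bool :=
  pw (fun c => cnd (Nat.beq (Nat.mod sg p) 0) true (frc (mf p) fun f =>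
    cnd (Nat.blt 0 f && Nat.blt f p) true (tryP K r m num den lc lt L sg pd ac p [] pd c)))
    p lo hi 100 (Nat.mul p p)

/-- All possibilities for the next class. -/
noncomputable def body (ps : List ℕ) (nd lo hi : ℕ) : Bool :=
  cnd (allN (fun p => spl p (fun S rest => List.rec true (fun _ _ _ => frc (lcmS S)
      (pw (tryP K r m num den lc lt L sg pd ac p S rest) p lo hi 100)) S) pd [] [] []) ps)
    (cnd (Nat.beq nd m) true (cnd (allN (fun p =>
        cnd (Nat.blt p lo || Nat.blt hi p || Nat.beq (Nat.mod sg p) 0) true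
          (tryP K r m num den lc lt L sg pd ac p [] pd p)) [5, 7, 11, 13, 17, 19, 23, 29, 31] &&
        atom K r m num den lc lt L sg pd ac lo hi 2 &&
        lp (atom K r m num den lc lt L sg pd ac lo hi) hi hi 3)
      (cnd (Nat.blt m 3) true (frc (Nat.sub (Nat.add nd 3) m) fun sl => rng (fun i =>
        frc (Nat.add lo i) fun c => cnd (Nat.blt (cdv c ps) sl) true
          (tryM r m num den lc lt L sg pd ac c)) (Nat.sub (Nat.succ hi) lo))) false)) false

end

/-- One step of the search. -/
noncomputable def node (K : ℕ) (leaf : ℕ → List T3 → Bool) (r : St → Bool) (s : St) : Bool :=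
  St.rec (fun m0 n0 d0 lc lt L0 sg0 pd ac => frc m0 fun m => ddp pd [] fun ps =>
    frc (ndp ps pd) fun nd => cnd (Nat.blt m nd) true (frc n0 fun n => frc d0 fun d =>
      frc (Nat.gcd n d) fun g => frc (Nat.div n g) fun num => frc (Nat.div d g) fun den =>
        cnd (Nat.beq m 0) (cnd (Nat.beq num 1) (leaf den ac) true) (frc L0 fun L => frc sg0 fun sg =>
          frc (Nat.div (Nat.mul (Nat.succ m) den) num) fun hi => frc (Nat.succ (Nat.div den num))
            fun l => frc (Bool.rec l lc (Nat.blt l lc)) fun lo =>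
              body K r m num den lc lt L sg pd ac ps nd lo hi))) s

/-- Iteration of the steps. -/
noncomputable def iter (K : ℕ) (leaf : ℕ → List T3 → Bool) (r : St → Bool) (n : ℕ) : St → Bool :=
  Nat.rec r (fun _ ih => node K leaf ih) n

/-- The initial state. -/
def root (K : ℕ) : St := ⟨K - 1, 1, 1, 5, 0, 1, 1, [], []⟩

end CfsgLib.KCl
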