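import Mathlib
import Cfsg.Agent.Lib.KCl.SDef

/-!
Specifications of the auxiliary functions of the search.
-/

set_option autoImplicit false

namespace CfsgLib.KCl

open CfsgLib.ChTab

theorem frc_eq' (x : ℕ) (k : ℕ → Bool) : frc x k = k x := rfl

theorem cnd_eq (b x y : Bool) : cnd b x y = if b = true then x else y := by cases b <;> rfl

theorem rec_eq {α : Type} (b : Bool) (x y : α) :
    (Bool.rec y x b : α) = if b = true then x else y := by cases b <;> rfl

theorem mfA_spec (n fuel d : ℕ) : mfA n fuel d = 0 ∨ mfA n fuel d = Nat.minFacAux n d := by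
  induction fuel generalizing d with
  | zero => exact Or.inl rfl
  | succ f ih =>
    change (Bool.rec (Bool.rec (mfA n f (d + 2)) d (Nat.beq (n % d) 0)) n
      (Nat.blt n (d * d)) : ℕ) = 0 ∨ (Bool.rec (Bool.rec (mfA n f (d + 2)) d (Nat.beq (n % d) 0)) n
      (Nat.blt n (d * d)) : ℕ) = _
    rw [Nat.minFacAux]
    simp only [rec_eq, Nat.blt_eq, Nat.beq_eq, ← Nat.dvd_iff_mod_eq_zero]
    split_ifs
    · exact Or.inr rfl
    · exact Or.inr rfl
    · exact ih _

theorem mf_spec (n : ℕ) : mf n = 0 ∨ mf n = n.minFac := by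
  change (Bool.rec (mfA n n 3) 2 (Nat.beq (n % 2) 0) : ℕ) = 0 ∨
    (Bool.rec (mfA n n 3) 2 (Nat.beq (n % 2) 0) : ℕ) = _
  rw [Nat.minFac_eq]
  simp only [rec_eq, Nat.beq_eq, ← Nat.dvd_iff_mod_eq_zero]
  split_ifs
  · exact Or.inr rfl
  · exact mfA_spec _ _ _

theorem strip_spec (p fuel c : ℕ) (h : strip p fuel c ≠ 0) :
    ∃ i, c = p ^ i * strip p fuel c ∧ ¬ p ∣ strip p fuel c := by
  induction fuel generalizing c with
  | zero => exact (h rfl).elim
  | succ f ih =>
    have e : strip p (f + 1) c = if p ∣ c then strip p f (c / p) else c := by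
      change (Bool.rec c (strip p f (c / p)) (Nat.beq (c % p) 0) : ℕ) = _
      simp only [rec_eq, Nat.beq_eq, ← Nat.dvd_iff_mod_eq_zero]
    rw [e] at h ⊢
    split_ifs at h ⊢ with h1
    · obtain ⟨i, h2, h3⟩ := ih _ h
      exact ⟨i + 1, by rw [pow_succ', mul_assoc, ← h2, Nat.mul_div_cancel' h1], h3⟩
    · exact ⟨0, by simp, h1⟩

theorem ppw_spec (p c fuel j : ℕ) (h : p ^ j ∣ c) : ∃ i, ppw p c fuel (p ^ j) = p ^ i ∧ p ^ i ∣ c := by
  induction fuel generalizing j with
  | zero => exact ⟨j, rfl, h⟩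
  | succ f ih =>
    change ∃ i, (Bool.rec (p ^ j) (ppw p c f (p ^ (j + 1))) (Nat.beq (c % p ^ (j + 1)) 0) : ℕ) = _ ∧ _
    simp only [rec_eq, Nat.beq_eq, ← Nat.dvd_iff_mod_eq_zero]
    split_ifs with h1
    · exact ih _ h1
    · exact ⟨j, rfl, h⟩

theorem memN_iff (a : ℕ) (l : List ℕ) : memN a l = true ↔ a ∈ l := by
  induction l with
  | nil => simp [memN]
  | cons b l ih =>
    change (Bool.rec (memN a l) true (Nat.beq a b) : Bool) = true ↔ _
    simp only [rec_eq, Nat.beq_eq, List.mem_cons, ← ih]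
    split_ifs with h <;> simp [h]

theorem memT_iff (p q c : ℕ) (l : List T3) : memT p q c l = true ↔ (p, q, c) ∈ l := by
  induction l with
  | nil => simp [memT]
  | cons b l ih =>
    obtain ⟨p', q', c'⟩ := b
    change (Bool.rec (memT p q c l) true (Nat.beq c c' && Nat.beq p p' && Nat.beq q q') : Bool) =
      true ↔ _
    simp only [rec_eq, Nat.beq_eq, List.mem_cons, ← ih, Bool.and_eq_true, Prod.mk.injEq]
    split_ifs with h <;> simp [h] <;> tauto

theorem ddp_spec (l : List T3) (a : List ℕ) (h : a.Nodup) : ∃ ps : List ℕ, ps.Nodup ∧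
    (∀ p, p ∈ ps ↔ p ∈ a ∨ ∃ d ∈ l, d.1 = p) ∧ ∀ k, ddp l a k = k ps := by
  induction l generalizing a with
  | nil => exact ⟨a, h, by simp, fun _ => rfl⟩
  | cons b l ih =>
    obtain ⟨p, x⟩ := b
    have e : ∀ k, ddp ((p, x) :: l) a k = if p ∈ a then ddp l a k else ddp l (p :: a) k := fun k => by
      change (Bool.rec (ddp l (p :: a) k) (ddp l a k) (memN p a) : Bool) = _
      simp only [rec_eq, memN_iff]
    by_cases hp : p ∈ a
    · obtain ⟨ps, h1, h2, h3⟩ := ih a h
      refine ⟨ps, h1, fun q => ?_, fun k => by rw [e, if_pos hp, h3]⟩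
      simp only [h2, List.mem_cons, exists_eq_or_imp]
      exact ⟨by tauto, by rintro (h | rfl | h) <;> tauto⟩
    · obtain ⟨ps, h1, h2, h3⟩ := ih (p :: a) (List.nodup_cons.mpr ⟨hp, h⟩)
      refine ⟨ps, h1, fun q => ?_, fun k => by rw [e, if_neg hp, h3]⟩
      simp only [h2, List.mem_cons, exists_eq_or_imp]
      tauto

theorem cE_eq (p : ℕ) (l : List T3) :
    cE p l = (l : Multiset T3).countP fun d => d.1 = p ∧ d.2.1 = 2 ∧ ¬ 4 ∣ d.2.2 := by
  induction l with
  | nil => rfl
  | cons b l ih =>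
    obtain ⟨p', q, c⟩ := b
    change (Bool.rec (cE p l) (Bool.rec (cE p l + 1) (cE p l) (Nat.beq (c % 4) 0))
      (Nat.beq p p' && Nat.beq q 2) : ℕ) = _
    simp only [rec_eq, Nat.beq_eq, ← Nat.dvd_iff_mod_eq_zero, Bool.and_eq_true,
      ← Multiset.cons_coe, Multiset.countP_cons, ← ih]
    by_cases h1 : p = p' ∧ q = 2
    · by_cases h2 : 4 ∣ c <;> simp [h1, h2]
    · have : ¬ (p' = p ∧ q = 2 ∧ ¬ 4 ∣ c) := by tauto
      simp only [h1, this, if_false, add_zero]

theorem cN_spec (p : ℕ) (l : List T3) :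
    cN p l = 0 ∨ cN p l = 1 ∧ ∃ d ∈ l, d.1 = p ∧ d.2.1 = 2 ∧ 4 ∣ d.2.2 := by
  induction l with
  | nil => exact Or.inl rfl
  | cons b l ih =>
    have e : cN p (b :: l) = (Bool.rec (cN p l) (Bool.rec (cN p l) 1 (Nat.beq (b.2.2 % 4) 0))
      (Nat.beq p b.1 && Nat.beq b.2.1 2) : ℕ) := rfl
    simp only [rec_eq, Nat.beq_eq, ← Nat.dvd_iff_mod_eq_zero, Bool.and_eq_true] at e
    have ih' : cN p l = 0 ∨ cN p l = 1 ∧ ∃ d ∈ b :: l, d.1 = p ∧ d.2.1 = 2 ∧ 4 ∣ d.2.2 :=
      ih.imp_right (And.imp_right fun ⟨d, h1, h2⟩ => ⟨d, List.mem_cons_of_mem b h1, h2⟩)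
    split_ifs at e with h1 h2
    · exact Or.inr ⟨e, b, List.mem_cons_self, h1.1.symm, h1.2, h2⟩
    · rwa [e]
    · rwa [e]

theorem ndp_eq (ps : List ℕ) (l : List T3) :
    ndp ps l = (ps.map fun p => max 1 (cE p l + cN p l)).sum := by
  induction ps with
  | nil => rfl
  | cons p ps ih =>
    change ndp ps l + (Nat.rec 1 (fun n _ => n + 1) (cE p l + cN p l) : ℕ) = _
    rw [List.map_cons, List.sum_cons, ih, add_comm]
    cases cE p l + cN p l <;> simp

theorem spl_spec (p : ℕ) (l ban S r : List T3) (M : Multiset T3) (h : M ≤ l)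
    (hM : ∀ d ∈ M, d.1 = p ∧ d ∉ ban) : ∃ S' r' : List T3, (S' : Multiset T3) = M + S ∧
      r' + M = (l : Multiset T3) + r ∧ ∀ k, spl p k l ban S r = true → k S' r' = true := by
  induction l generalizing ban S r M with
  | nil =>
    obtain rfl : M = 0 := Multiset.le_zero.mp h
    exact ⟨S, r, by simp, by simp, fun _ => id⟩
  | cons b l ih =>
    obtain ⟨p', q, c⟩ := b
    have e : ∀ k, spl p k ((p', q, c) :: l) ban S r = if p = p' then
        ((decide ((p', q, c) ∈ ban) || spl p k l ban ((p', q, c) :: S) r) &&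
          spl p k l ((p', q, c) :: ban) S ((p', q, c) :: r))
        else spl p k l ban S ((p', q, c) :: r) := fun k => by
      change cnd (Nat.beq p p') (cnd (cnd (memT p' q c ban) true (spl p k l ban ((p', q, c) :: S) r))
        (spl p k l ((p', q, c) :: ban) S ((p', q, c) :: r)) false)
          (spl p k l ban S ((p', q, c) :: r)) = _
      simp only [cnd_eq, Nat.beq_eq, memT_iff]
      split_ifs <;> simp_all
    by_cases hb : (p', q, c) ∈ M
    · obtain ⟨M, rfl⟩ := Multiset.exists_cons_of_mem hb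
      rw [← Multiset.cons_coe, Multiset.cons_le_cons_iff] at h
      obtain ⟨S', r', h1, h2, h3⟩ := ih ban ((p', q, c) :: S) r M h
        fun d hd => hM d (Multiset.mem_cons_of_mem hd)
      refine ⟨S', r', by simp [h1, ← Multiset.cons_coe], by simp [h2, ← Multiset.cons_coe],
        fun k hk => h3 k ?_⟩
      obtain ⟨rfl, h4⟩ := hM _ hb
      simp only [e, if_true, h4, decide_false, Bool.false_or, Bool.and_eq_true] at hk
      exact hk.1
    · rw [← Multiset.cons_coe, Multiset.le_cons_of_notMem hb] at h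
      by_cases hp : p = p'
      · obtain ⟨S', r', h1, h2, h3⟩ := ih ((p', q, c) :: ban) S ((p', q, c) :: r) M h fun d hd =>
          ⟨(hM d hd).1, by rw [List.mem_cons, not_or]; exact ⟨fun e => hb (e ▸ hd), (hM d hd).2⟩⟩
        refine ⟨S', r', h1, by simp [h2, ← Multiset.cons_coe], fun k hk => h3 k ?_⟩
        simp only [e, if_pos hp, Bool.and_eq_true] at hk
        exact hk.2
      · obtain ⟨S', r', h1, h2, h3⟩ := ih ban S ((p', q, c) :: r) M h hM
        exact ⟨S', r', h1, by simp [h2, ← Multiset.cons_coe], fun k hk => h3 k (by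
          rwa [e, if_neg hp] at hk)⟩

theorem flt_spec (p : ℕ) (l a : List T3) (n : ℕ) : ∃ np : List T3,
    (np : Multiset T3) = (l : Multiset T3).filter (·.1 ≠ p) + a ∧
      ∀ k, flt p k l a n = k np (n + ((l : Multiset T3).filter (·.1 = p)).card) := by
  induction l generalizing a n with
  | nil => exact ⟨a, by simp, fun _ => rfl⟩
  | cons b l ih =>
    obtain ⟨p', x⟩ := b
    have e : ∀ k, flt p k ((p', x) :: l) a n =
        if p = p' then flt p k l a (n + 1) else flt p k l ((p', x) :: a) n := fun k => by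
      change cnd (Nat.beq p p') (flt p k l a (n + 1)) (flt p k l ((p', x) :: a) n) = _
      simp only [cnd_eq, Nat.beq_eq]
    by_cases hp : p = p'
    · obtain ⟨np, h1, h2⟩ := ih a (n + 1)
      subst hp
      refine ⟨np, by rw [h1, ← Multiset.cons_coe, Multiset.filter_cons_of_neg _ (by simp)],
        fun k => ?_⟩
      rw [e, if_pos rfl, h2, ← Multiset.cons_coe, Multiset.filter_cons_of_pos _ (by simp),
        Multiset.card_cons, add_assoc, add_comm 1]
    · obtain ⟨np, h1, h2⟩ := ih ((p', x) :: a) n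
      refine ⟨np, ?_, fun k => ?_⟩
      · rw [h1, ← Multiset.cons_coe, ← Multiset.cons_coe,
          Multiset.filter_cons_of_pos _ (by exact Ne.symm hp), Multiset.add_cons, Multiset.cons_add]
      · rw [e, if_neg hp, h2, ← Multiset.cons_coe, Multiset.filter_cons_of_neg _ (by exact Ne.symm hp)]

theorem lcmS_spec (l : List T3) :
    (∀ d ∈ l, d.2.2 ∣ lcmS l) ∧ ∀ n, (∀ d ∈ l, d.2.2 ∣ n) → lcmS l ∣ n := by
  induction l with
  | nil => exact ⟨by simp, fun n _ => one_dvd n⟩
  | cons b l ih =>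
    have e : lcmS (b :: l) = Nat.lcm b.2.2 (lcmS l) := rfl
    simp only [e, List.forall_mem_cons]
    exact ⟨⟨Nat.dvd_lcm_left _ _, fun d hd => (ih.1 d hd).trans (Nat.dvd_lcm_right _ _)⟩,
      fun n h => Nat.lcm_dvd h.1 (ih.2 n h.2)⟩

theorem smq_eq (c q : ℕ) (l : List T3) :
    smq c q l = 1 + (((l : Multiset T3).filter (·.2.1 = q)).map (c / ·.2.2)).sum := by
  induction l with
  | nil => rfl
  | cons b l ih =>
    change (Bool.rec (smq c q l) (smq c q l + c / b.2.2) (Nat.beq q b.2.1) : ℕ) = _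
    simp only [rec_eq, Nat.beq_eq, ← Multiset.cons_coe, Multiset.filter_cons, ih, eq_comm (a := q)]
    split_ifs <;> simp
    ring

theorem cnq_eq (q : ℕ) (l : List T3) :
    cnq q l = ((l : Multiset T3).filter (·.2.1 = q)).card := by
  induction l with
  | nil => rfl
  | cons b l ih =>
    change (Bool.rec (cnq q l) (cnq q l + 1) (Nat.beq q b.2.1) : ℕ) = _
    simp only [rec_eq, Nat.beq_eq, ← Multiset.cons_coe, Multiset.filter_cons, ih, eq_comm (a := q)]
    split_ifs <;> simp

theorem len_eq (l : List T3) : len l = l.length := by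
  induction l with
  | nil => rfl
  | cons b l ih => exact congrArg Nat.succ ih

theorem okP_of {c : ℕ} {S l : List T3} (h : ∀ d ∈ l, (∀ i, d.2.1 ^ i ∣ c → d.2.1 ^ i ∣
    1 + (((S : Multiset T3).filter (·.2.1 = d.2.1)).map (c / ·.2.2)).sum) ∧
      (¬ d.2.1 * d.2.1 ∣ d.2.2 → ((S : Multiset T3).filter (·.2.1 = d.2.1)).card ∣ d.2.1 - 1)) :
    okP c S l = true := by
  induction l with
  | nil => rfl
  | cons b l ih =>
    change cnd (Nat.beq (smq c b.2.1 S % ppw b.2.1 c 64 1) 0 && (Nat.beq (b.2.2 % (b.2.1 * b.2.1)) 0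
      || Nat.beq ((b.2.1 - 1) % cnq b.2.1 S) 0)) (okP c S l) false = true
    obtain ⟨i, h1, h2⟩ := ppw_spec b.2.1 c 64 0 (by simp)
    rw [pow_zero] at h1
    obtain ⟨h3, h4⟩ := h b List.mem_cons_self
    simp only [cnd_eq, Nat.beq_eq, ← Nat.dvd_iff_mod_eq_zero, Bool.and_eq_true, Bool.or_eq_true,
      h1, smq_eq, cnq_eq]
    rw [if_pos ⟨h3 i h2, or_iff_not_imp_left.mpr h4⟩]
    exact ih fun d hd => h d (List.mem_cons_of_mem _ hd)

theorem pw_spec {f : ℕ → Bool} {p lo hi fuel c : ℕ} (hp : 0 < p) (h : pw f p lo hi fuel c = true)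
    (i : ℕ) (h1 : lo ≤ c * p ^ i) (h2 : c * p ^ i ≤ hi) : f (c * p ^ i) = true := by
  induction fuel generalizing c i with
  | zero => cases h
  | succ n ih =>
    change cnd (Nat.blt hi c) true (cnd (cnd (Nat.blt c lo) true (f c))
      (pw f p lo hi n (c * p)) false) = true at h
    have := Nat.le_mul_of_pos_right c (pow_pos hp i)
    simp only [cnd_eq, Nat.blt_eq, if_neg (show ¬ hi < c by omega)] at h
    have h5 : (c < lo ∨ f c = true) ∧ pw f p lo hi n (c * p) = true := by
      split_ifs at h with h3 h4 <;> simp_all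
    rcases i with _ | i
    · simp only [pow_zero, mul_one] at h1 ⊢; exact h5.1.resolve_left (by omega)
    · rw [pow_succ', ← mul_assoc] at h1 h2 this ⊢; exact ih h5.2 i h1 h2

theorem lp_spec {f : ℕ → Bool} {hi fuel p : ℕ} (h : lp f hi fuel p = true)
    (j : ℕ) (h2 : (p + 2 * j) * (p + 2 * j) ≤ hi) : f (p + 2 * j) = true := by
  induction fuel generalizing p j with
  | zero => cases h
  | succ n ih =>
    change cnd (Nat.blt hi (p * p)) true (cnd (f p) (lp f hi n (p + 2)) false) = true at h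
    simp only [cnd_eq, Nat.blt_eq, if_neg (show ¬ hi < p * p by nlinarith)] at h
    split_ifs at h with h3
    rcases j with _ | j
    · exact h3
    · rw [show p + 2 * (j + 1) = p + 2 + 2 * j by ring] at h2 ⊢; exact ih h j h2

theorem rng_spec {f : ℕ → Bool} {n : ℕ} (h : rng f n = true) {i : ℕ} (hi : i < n) : f i = true := by
  induction n with
  | zero => omega
  | succ n ih =>
    change cnd (f n) (rng f n) false = true at h
    simp only [cnd_eq] at h
    split_ifs at h with h3
    rcases Nat.lt_succ_iff_lt_or_eq.mp hi with h4 | rfl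
    · exact ih h h4
    · exact h3

theorem allN_spec {f : ℕ → Bool} {l : List ℕ} (h : allN f l = true) {i : ℕ} (hi : i ∈ l) :
    f i = true := by
  induction l with
  | nil => cases hi
  | cons a l ih =>
    change cnd (f a) (allN f l) false = true at h
    simp only [cnd_eq] at h
    split_ifs at h with h3
    rcases List.mem_cons.mp hi with rfl | h4
    · exact h3
    · exact ih h h4

theorem cdv_eq (c : ℕ) (ps : List ℕ) : cdv c ps = (ps.filter (· ∣ c)).length := by
  induction ps with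
  | nil => rfl
  | cons p l ih =>
    change (Bool.rec (cdv c l) (cdv c l + 1) (Nat.beq (c % p) 0) : ℕ) = _
    simp only [rec_eq, Nat.beq_eq, ← Nat.dvd_iff_mod_eq_zero, List.filter_cons, decide_eq_true_eq]
    split_ifs <;> simp [ih]

theorem rep_eq (x : T3) (a : List T3) (t : ℕ) : rep x a t = List.replicate t x ++ a := by
  induction t with
  | zero => rfl
  | succ t ih => exact congrArg (x :: ·) ih

end CfsgLib.KCl
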