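import Mathlib
import Cfsg.Agent.Lib.KCl.SAux

/-!
Soundness of the search.
-/

set_option autoImplicit false

namespace CfsgLib.KCl

open CfsgLib.ChTab

/-- The data of a conjugacy class. -/
structure Rc where
  /-- order of the centralizer -/
  c : ℕ
  /-- least prime factor of the order -/
  p : ℕ
  /-- the other prime factor of the order, or `0` -/
  q : ℕ
  /-- the classes in the section -/
  S : Multiset T3

namespace Rc

/-- The numbers. -/
def tri (r : Rc) : T3 := (r.c, r.p, r.q)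

/-- The demands. -/
def dem (r : Rc) : Multiset T3 := if r.q = 0 then 0 else {(r.p, r.q, r.c), (r.q, r.p, r.c)}

/-- Classes of `p`-elements. -/
abbrev isP (p : ℕ) (r : Rc) : Prop := r.q = 0 ∧ r.p = p

/-- The type. -/
def ty (r : Rc) : ℕ := if r.q = 0 then r.p else 0

end Rc

/-- The local conditions. -/
structure Loc (g : ℕ) (r : Rc) : Prop where
  five : 5 ≤ r.c
  dvd : r.c ∣ g
  pp : r.p.Prime
  pc : r.p ∣ r.c
  mix : r.q ≠ 0 → r.q.Prime ∧ r.p < r.q ∧ r.q ∣ r.c ∧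
    (∀ s, s.Prime → s ∣ r.c → s = r.p ∨ s = r.q) ∧ r.S = 0
  ch : ∀ d ∈ r.S, d.1 = r.p ∧ d.2.2 ∣ r.c
  mx : r.q = 0 → ∀ s i, s.Prime → s ≠ r.p → s ^ (i + 1) ∣ r.c → ∃ d ∈ r.S, s ^ (i + 1) ∣ d.2.2
  fr : ∀ d ∈ r.S, ∀ i, d.2.1 ^ i ∣ r.c →
    d.2.1 ^ i ∣ 1 + ((r.S.filter (·.2.1 = d.2.1)).map (r.c / ·.2.2)).sum
  cn : ∀ d ∈ r.S, ¬ d.2.1 * d.2.1 ∣ d.2.2 → (r.S.filter (·.2.1 = d.2.1)).card ∣ d.2.1 - 1

/-- The global conditions. -/
structure Model (K g : ℕ) (A : Multiset Rc) : Prop where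
  gpos : 0 < g
  le : K ≤ 11
  card : A.card + 1 = K
  sum : (A.map fun r => (1 : ℚ) / r.c).sum + 1 / g = 1
  loc : ∀ r ∈ A, Loc g r
  bal : (A.map Rc.dem).sum = (A.map Rc.S).sum
  sing : ∀ r ∈ A, r.q = 0 → ¬ r.p * r.p ∣ r.c → ¬ r.p * r.p ∣ g ∧
    (∀ r' ∈ A, r'.isP r.p → r'.c = r.c ∧ r'.S = r.S) ∧ ∃ e, 2 ≤ e ∧
      (A.filter (Rc.isP r.p)).card * e = r.p - 1 ∧
        (r.c = r.p → e + (A.filter (Rc.isP r.p)).card ≤ K)

/-- The invariant. -/
structure Inv (g : ℕ) (A : Multiset Rc) (s : St) (B R : Multiset Rc) : Prop where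
  eq : A = B + R
  ac : (s.ac : Multiset T3) = B.map Rc.tri
  card : R.card = s.m
  pos : 0 < s.d
  sum : (s.n : ℚ) / s.d = (R.map fun r => (1 : ℚ) / r.c).sum + 1 / g
  key : ∀ r ∈ R, s.lc < r.c ∨ s.lc = r.c ∧ s.lt ≤ r.ty
  bal : s.pd + (R.map Rc.dem).sum = (R.map Rc.S).sum
  dvd : s.L ∣ g
  sg : ∀ p, p.Prime → p ∣ s.sg → ∀ r ∈ R, ¬ r.isP p
  sg' : ∀ r ∈ B, r.q = 0 → ¬ r.p * r.p ∣ r.c → r.p ∣ s.sg

/-- The next state. -/
def Nx (g : ℕ) (A : Multiset Rc) (F : (St → Bool) → Bool) : Prop :=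
  ∃ s B R, Inv g A s B R ∧ ∀ r, F r = true → r s = true

theorem Nx.mono {g : ℕ} {A : Multiset Rc} {F F' : (St → Bool) → Bool} (h : Nx g A F)
    (h' : ∀ r, F' r = true → F r = true) : Nx g A F' :=
  let ⟨s, B, R, h1, h2⟩ := h
  ⟨s, B, R, h1, fun r hr => h2 r (h' r hr)⟩

variable {K g : ℕ} {A : Multiset Rc}

theorem Loc.q0 {r : Rc} (h : Loc g r) {d : T3} (hd : d ∈ r.S) : r.q = 0 := by
  by_contra e
  rw [(h.mix e).2.2.2.2] at hd
  cases hd

theorem Loc.eq_mul {r : Rc} (h : Loc g r) (h0 : r.q = 0) {S : List T3}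
    (hS : (S : Multiset T3) = r.S) : ∃ i, r.c = lcmS S * r.p ^ i := by
  obtain ⟨h1, h2⟩ := lcmS_spec S
  obtain ⟨u, hu⟩ := h2 r.c fun d hd => (h.ch d (hS ▸ hd)).2
  have h3 := h.five
  have h4 : lcmS S ≠ 0 := by rintro e; rw [e] at hu; omega
  refine ⟨_, hu.trans (congrArg _ (Nat.eq_prime_pow_of_unique_prime_dvd (by rintro rfl; omega)
    fun {s} hs hd => ?_))⟩
  by_contra e
  obtain ⟨d, h5, h6⟩ := h.mx h0 s ((lcmS S).factorization s) hs e
    (by rw [hu, pow_succ]; exact mul_dvd_mul (Nat.ordProj_dvd _ _) hd)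
  exact Nat.pow_succ_factorization_not_dvd h4 hs (h6.trans (h1 d (by rwa [← hS] at h5)))

theorem card_fib (R : Multiset Rc) (T : Finset ℕ) :
    ∑ p ∈ T, (R.filter (Rc.isP p)).card ≤ R.card := by
  induction R using Multiset.induction_on with
  | empty => simp
  | cons r R ih =>
    simp only [Multiset.filter_cons, Multiset.card_add, Finset.sum_add_distrib, Multiset.card_cons]
    have : ∑ p ∈ T, (if r.isP p then ({r} : Multiset Rc) else 0).card ≤ 1 := by
      refine le_trans (Finset.sum_le_sum (g := fun p => if r.p = p then 1 else 0) fun p _ => ?_) ?_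
      · by_cases h : r.isP p
        · rw [if_pos h, if_pos h.2, Multiset.card_singleton]
        · rw [if_neg h]; simp
      · rw [Finset.sum_ite_eq]; split_ifs <;> simp
    omega

theorem exists_isP {R : Multiset Rc} (hR : ∀ r ∈ R, Loc g r) {d : T3}
    (hd : d ∈ (R.map Rc.S).sum) : ∃ r ∈ R, d ∈ r.S ∧ r.isP d.1 := by
  obtain ⟨_, h1, h2⟩ := Multiset.mem_join.mp hd
  obtain ⟨r, h3, rfl⟩ := Multiset.mem_map.mp h1
  exact ⟨r, h3, h2, (hR r h3).q0 h2, ((hR r h3).ch d h2).1.symm⟩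

theorem need_aux {R : Multiset Rc} (hR : ∀ r ∈ R, Loc g r) (p : ℕ) :
    ((R.map Rc.S).sum.countP fun d => d.1 = p ∧ d.2.1 = 2 ∧ ¬ 4 ∣ d.2.2) ≤
      (R.filter (Rc.isP p)).card ∧ ((∃ d ∈ (R.map Rc.S).sum, d.1 = p ∧ d.2.1 = 2 ∧ 4 ∣ d.2.2) →
      ((R.map Rc.S).sum.countP fun d => d.1 = p ∧ d.2.1 = 2 ∧ ¬ 4 ∣ d.2.2) + 1 ≤
      (R.filter (Rc.isP p)).card) := by
  induction R using Multiset.induction_on with
  | empty => simp
  | cons r R ih =>
    obtain ⟨h1, h2⟩ := ih fun r' h => hR r' (Multiset.mem_cons_of_mem h)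
    have hr := hR r (Multiset.mem_cons_self _ _)
    simp only [Multiset.map_cons, Multiset.sum_cons, Multiset.countP_add, Multiset.filter_cons,
      Multiset.card_add, Multiset.mem_add]
    have a1 : (∃ d ∈ r.S, d.1 = p) → (if r.isP p then ({r} : Multiset Rc) else 0).card = 1 :=
      fun ⟨d, h3, h4⟩ => by rw [if_pos ⟨hr.q0 h3, h4 ▸ (hr.ch d h3).1.symm⟩, Multiset.card_singleton]
    by_cases h3 : ∃ d ∈ r.S, d.1 = p ∧ d.2.1 = 2 ∧ ¬ 4 ∣ d.2.2
    · obtain ⟨d, h3, h4, h5, h6⟩ := h3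
      have h7 := hr.cn d h3 (by rwa [h5])
      rw [h5, Nat.dvd_one, Multiset.card_eq_one] at h7
      obtain ⟨d', h7⟩ := h7
      have h8 : ∀ e ∈ r.S, e.2.1 = 2 → e = d' := fun e a b =>
        Multiset.mem_singleton.mp (h7 ▸ Multiset.mem_filter.mpr ⟨a, b⟩)
      have h9 : (r.S.countP fun d => d.1 = p ∧ d.2.1 = 2 ∧ ¬ 4 ∣ d.2.2) ≤ 1 := by
        rw [Multiset.countP_eq_card_filter, ← Multiset.card_singleton d', ← h7]
        exact Multiset.card_le_card (Multiset.monotone_filter_right _ fun e he => he.2.1)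
      rw [a1 ⟨d, h3, h4⟩]
      refine ⟨by omega, fun ⟨e, b1, b2⟩ => ?_⟩
      rcases b1 with b1 | b1
      · exact (h6 (by rw [h8 d h3 h5, ← h8 e b1 b2.2.1]; exact b2.2.2)).elim
      · have := h2 ⟨e, b1, b2⟩; omega
    · rw [Multiset.countP_eq_zero.mpr fun d a b => h3 ⟨d, a, b⟩]
      refine ⟨by omega, fun ⟨e, b1, b2⟩ => ?_⟩
      rcases b1 with b1 | b1
      · rw [a1 ⟨e, b1, b2.1⟩]; omega
      · have := h2 ⟨e, b1, b2⟩; omega

theorem ndp_le {R : Multiset Rc} (hR : ∀ r ∈ R, Loc g r) {pd : List T3}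
    (h : (pd : Multiset T3) ≤ (R.map Rc.S).sum) {ps : List ℕ} (hn : ps.Nodup)
    (hp : ∀ p ∈ ps, ∃ d ∈ pd, d.1 = p) (U : Finset ℕ)
    (hU : ∀ p ∈ U, p ∉ ps ∧ ∃ d ∈ (R.map Rc.S).sum, d.1 = p) : ndp ps pd + U.card ≤ R.card := by
  have one : ∀ p, (∃ d ∈ (R.map Rc.S).sum, d.1 = p) → 1 ≤ (R.filter (Rc.isP p)).card :=
    fun p ⟨d, h1, h2⟩ => by
      obtain ⟨r, h3, -, h4⟩ := exists_isP hR h1
      exact Multiset.card_pos_iff_exists_mem.mpr ⟨r, Multiset.mem_filter.mpr ⟨h3, h2 ▸ h4⟩⟩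
  refine le_trans ?_ (card_fib R (ps.toFinset ∪ U))
  rw [Finset.sum_union (Finset.disjoint_right.mpr fun p a b => (hU p a).1 (List.mem_toFinset.mp b)),
    ndp_eq, ← List.sum_toFinset _ hn, Finset.card_eq_sum_ones]
  refine add_le_add (Finset.sum_le_sum fun p a => max_le ?_ ?_)
    (Finset.sum_le_sum fun p a => one p (hU p a).2)
  · obtain ⟨d, h1, h2⟩ := hp p (List.mem_toFinset.mp a)
    exact one p ⟨d, Multiset.mem_of_le h h1, h2⟩
  · obtain ⟨h1, h2⟩ := need_aux hR p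
    have h3 := Multiset.countP_le_of_le (fun d : T3 => d.1 = p ∧ d.2.1 = 2 ∧ ¬ 4 ∣ d.2.2) h
    rw [cE_eq]
    rcases cN_spec p pd with e | ⟨e, d, h4, h5⟩
    · omega
    · have := h2 ⟨d, Multiset.mem_of_le h h4, h5⟩; omega

section
variable {m num den lc lt L sg : ℕ} {pd ac : List T3} {B R : Multiset Rc} {r : Rc}

theorem Inv.loc {s : St} (M : Model K g A) (h : Inv g A s B R) : ∀ r ∈ R, Loc g r :=
  fun r a => M.loc r (h.eq ▸ Multiset.mem_add.mpr (Or.inr a))

theorem Inv.le {s : St} (h : Inv g A s B R) : (s.pd : Multiset T3) ≤ (R.map Rc.S).sum :=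
  h.bal ▸ Multiset.le_add_right _ _

/-- The removal of `t` classes with the same numbers. -/
theorem Inv.step (M : Model K g A) (h : Inv g A ⟨m, num, den, lc, lt, L, sg, pd, ac⟩ B R)
    {T R' : Multiset Rc} (e : R = T + R') (hr : r ∈ R) (hT : ∀ r' ∈ T, r'.tri = r.tri)
    (hm : ∀ r' ∈ R, r.c < r'.c ∨ r.c = r'.c ∧ r.ty ≤ r'.ty) {sg' : ℕ} {pd' ac' : List T3}
    (h1 : (ac' : Multiset T3) = Multiset.replicate T.card r.tri + ac)
    (h2 : pd' + (T.map Rc.S).sum = pd + (T.map Rc.dem).sum)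
    (h3 : ∀ p, p.Prime → p ∣ sg' → p ∣ sg ∨ ∀ r ∈ R', ¬ r.isP p) (h4 : sg ∣ sg')
    (h5 : r.q = 0 → ¬ r.p * r.p ∣ r.c → r.p ∣ sg') : den * T.card < num * r.c ∧
      Inv g A ⟨m - T.card, num * r.c - den * T.card, den * r.c, r.c, r.ty, Nat.lcm L r.c, sg', pd',
        ac'⟩ (B + T) R' := by
  have hl := h.loc M
  have hc : (0 : ℚ) < r.c := by have := (hl r hr).five; positivity
  have hd : (0 : ℚ) < den := by exact_mod_cast h.pos
  have hg : (0 : ℚ) < g := by exact_mod_cast M.gpos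
  have hs := h.sum
  have hR : ∀ {r'}, r' ∈ R' → r' ∈ R := fun a => e ▸ Multiset.mem_add.mpr (Or.inr a)
  rw [e, Multiset.map_add, Multiset.sum_add, Multiset.map_congr rfl (g := fun _ => (1 : ℚ) / r.c)
    fun r' a => by rw [(Prod.ext_iff.mp (hT r' a)).1.trans (rfl : r.tri.1 = r.c) |> fun e : r'.c = r.c => e],
    Multiset.map_const', Multiset.sum_replicate, nsmul_eq_mul] at hs
  have h6 : 0 ≤ (R'.map fun r => (1 : ℚ) / r.c).sum :=
    Multiset.sum_nonneg fun x hx => by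
      obtain ⟨_, -, rfl⟩ := Multiset.mem_map.mp hx
      positivity
  have h7 : den * T.card < num * r.c := by
    have : (T.card : ℚ) * (1 / r.c) < num / den := by
      dsimp only at hs
      have : (0 : ℚ) < 1 / g := by positivity
      linarith
    rw [mul_one_div, div_lt_div_iff₀ hc hd] at this
    exact_mod_cast (mul_comm (T.card : ℚ) den ▸ this)
  refine ⟨h7, by rw [h.eq, e, add_assoc], ?_, ?_, by exact_mod_cast mul_pos hd hc, ?_,
    fun r' a => hm r' (hR a), ?_, Nat.lcm_dvd h.dvd (hl r hr).dvd,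
    fun p a b => (h3 p a b).elim (fun c r' d => h.sg p a c r' (hR d)) id, fun r' a b c => ?_⟩
  · rw [h1, Multiset.map_add, ← h.ac, Multiset.map_congr rfl hT, Multiset.map_const', add_comm]
  · have := h.card
    rw [e, Multiset.card_add] at this
    dsimp only at this ⊢
    omega
  · dsimp only at hs ⊢
    rw [Nat.cast_sub h7.le, ← sub_eq_iff_eq_add'.mpr (hs.trans (add_assoc _ _ _))]
    push_cast
    field_simp
  · have := h.bal
    rw [e, Multiset.map_add, Multiset.map_add, Multiset.sum_add, Multiset.sum_add, ← add_assoc,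
      ← h2, add_right_comm, add_comm] at this
    exact add_left_cancel this
  · rcases Multiset.mem_add.mp a with a | a
    · exact (h.sg' r' a b c).trans h4
    · obtain ⟨e1, e2, e3⟩ : r'.c = r.c ∧ r'.p = r.p ∧ r'.q = r.q := by
        simpa [Rc.tri] using hT r' a
      rw [e2] at c ⊢
      exact h5 (e3 ▸ b) (e1 ▸ c)

theorem Inv.cnt (M : Model K g A) {s : St} (h : Inv g A s B R) (hr : r ∈ R) (h0 : r.q = 0)
    (hp : ¬ r.p * r.p ∣ r.c) : A.filter (Rc.isP r.p) = R.filter (Rc.isP r.p) := by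
  rw [h.eq, Multiset.filter_add, Multiset.filter_eq_nil.mpr fun b a c => ?_, zero_add]
  have := ((M.sing r (h.eq ▸ Multiset.mem_add.mpr (Or.inr hr)) h0 hp).2.1 b
    (h.eq ▸ Multiset.mem_add.mpr (Or.inl a)) c).1
  exact h.sg _ (h.loc M r hr).pp (c.2 ▸ h.sg' b a c.1 (by rwa [c.2, this])) r hr ⟨h0, rfl⟩

theorem Inv.S_le (M : Model K g A) {s : St} (h : Inv g A s B R) (hr : r ∈ R) (h0 : r.q = 0)
    (hm : ∀ r' ∈ R, r.c < r'.c ∨ r.c = r'.c ∧ r.ty ≤ r'.ty) {T : Multiset Rc} (hT : T ≤ R)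
    (h1 : ∀ r' ∈ T, r'.c = r.c) : (T.map Rc.S).sum ≤ s.pd := by
  obtain ⟨R', e⟩ := Multiset.le_iff_exists_add.mp hT
  have h2 : (T.map Rc.S).sum ≤ (R.map Rc.dem).sum + s.pd := by
    rw [add_comm, h.bal, e, Multiset.map_add, Multiset.sum_add]
    exact Multiset.le_add_right _ _
  refine Multiset.le_iff_count.mpr fun d => ?_
  by_cases hd : d ∈ (T.map Rc.S).sum
  swap
  · rw [Multiset.count_eq_zero_of_notMem hd]; exact Nat.zero_le _
  have h3 := Multiset.le_iff_count.mp h2 d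
  rwa [Multiset.count_add, Multiset.count_eq_zero_of_notMem (s := (R.map Rc.dem).sum) fun a => ?_,
    zero_add] at h3
  obtain ⟨r1, a1, a2, -⟩ := exists_isP (fun r a => h.loc M r (Multiset.mem_of_le hT a)) hd
  obtain ⟨_, a3, a4⟩ := Multiset.mem_join.mp a
  obtain ⟨r2, a5, rfl⟩ := Multiset.mem_map.mp a3
  have a6 := ((h.loc M r1 (Multiset.mem_of_le hT a1)).ch d a2).2
  have a7 := (h.loc M r hr).five
  rw [h1 r1 a1] at a6
  have a8 := Nat.le_of_dvd (by omega) a6
  have a9 := hm r2 a5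
  have b1 := (h.loc M r hr).pp.pos
  rw [Rc.dem] at a4
  split_ifs at a4 with b2
  · cases a4
  · rw [Rc.ty, Rc.ty, if_pos h0, if_neg b2] at a9
    simp only [Multiset.insert_eq_cons, Multiset.mem_cons, Multiset.mem_singleton] at a4
    rcases a4 with rfl | rfl <;> dsimp only at a8 <;> omega

theorem mod0 {a b : ℕ} : Nat.mod a b = 0 ↔ b ∣ a := Nat.dvd_iff_mod_eq_zero.symm

theorem tryP_sound (M : Model K g A) (h : Inv g A ⟨m, num, den, lc, lt, L, sg, pd, ac⟩ B R)
    (hr : r ∈ R) (h0 : r.q = 0) (hm : ∀ r' ∈ R, r.c < r'.c ∨ r.c = r'.c ∧ r.ty ≤ r'.ty)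
    {S rest : List T3} (hS : (S : Multiset T3) = r.S) (hr' : rest + r.S = (pd : Multiset T3)) :
    Nx g A fun k => tryP K k m num den lc lt L sg pd ac r.p S rest r.c := by
  classical
  have hl := h.loc M r hr
  have ty : r.ty = r.p := if_pos h0
  have tri : r.tri = (r.c, r.p, 0) := by rw [Rc.tri, h0]
  have k1 : ¬ (r.c = lc ∧ r.p < lt) := by
    have := h.key r hr
    dsimp only at this
    omega
  have k2 : okP r.c S S = true := okP_of fun d hd =>
    hS ▸ ⟨hl.fr d (hS ▸ hd), hl.cn d (hS ▸ hd)⟩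
  by_cases hp : r.p * r.p ∣ r.c
  · obtain ⟨-, a⟩ := h.step M (T := {r}) (R' := R.erase r) (sg' := sg) (pd' := rest)
      (ac' := (r.c, r.p, 0) :: ac) (by simp [hr]) hr (by simp) hm (by simp [tri, ← Multiset.cons_coe])
      (by simp [hr', Rc.dem, h0]) (fun _ _ => Or.inl) dvd_rfl fun _ a => (a hp).elim
    refine ⟨_, _, _, a, fun k hk => ?_⟩
    simp only [tryP, cnd_eq, Bool.and_eq_true, Nat.beq_eq, Nat.blt_eq, mod0, Nat.mul_eq] at hk
    rw [if_neg k1, if_pos k2, if_pos hp] at hk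
    simpa [ty] using hk
  have hA : r ∈ A := h.eq ▸ Multiset.mem_add.mpr (Or.inr hr)
  obtain ⟨s1, s2, e, s3, s4, s5⟩ := M.sing r hA h0 hp
  rw [h.cnt M hr h0 hp] at s4 s5
  obtain ⟨np, n1, n2⟩ := flt_spec r.p pd [] 0
  set T := R.filter (Rc.isP r.p) with hT
  have t1 : ∀ r' ∈ T, r'.isP r.p ∧ r'.c = r.c ∧ r'.S = r.S := fun r' a =>
    have b := Multiset.mem_filter.mp a
    ⟨b.2, s2 r' (h.eq ▸ Multiset.mem_add.mpr (Or.inr b.1)) b.2⟩
  have t2 := h.S_le M hr h0 hm (Multiset.filter_le _ _ : T ≤ R) fun r' a => (t1 r' a).2.1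
  have t3 : (T.map Rc.S).sum = (pd : Multiset T3).filter (·.1 = r.p) := by
    refine le_antisymm (Multiset.le_filter.mpr ⟨t2, fun d a => ?_⟩) ?_
    · obtain ⟨r', b, -, c⟩ := exists_isP (fun r a => h.loc M r (Multiset.mem_of_mem_filter a)) a
      exact c.2 ▸ (t1 r' b).1.2
    · refine (Multiset.filter_le_filter _ h.le).trans ?_
      rw [← Multiset.filter_add_not (Rc.isP r.p) R, Multiset.map_add, Multiset.sum_add,
        Multiset.filter_add, (Multiset.filter_eq_nil (s := (Multiset.map _ (R.filter (¬ ·.isP r.p))).sum)).mpr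
          fun d a b => ?_, add_zero]
      · exact Multiset.filter_le _ _
      · obtain ⟨r', c, -, c'⟩ := exists_isP (fun r a => h.loc M r (Multiset.mem_of_mem_filter a)) a
        exact (Multiset.mem_filter.mp c).2 (b ▸ c')
  obtain ⟨a0, a⟩ := h.step M (T := T) (R' := R.filter (¬ ·.isP r.p)) (sg' := sg * r.p) (pd' := np)
    (ac' := rep (r.c, r.p, 0) ac T.card) (Multiset.filter_add_not _ _).symm hr
    (fun r' a => by rw [tri, Rc.tri, (t1 r' a).1.1, (t1 r' a).1.2, (t1 r' a).2.1]) hm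
    (by rw [rep_eq, tri, ← Multiset.coe_add, Multiset.coe_replicate])
    (by
      rw [t3, n1, Multiset.map_congr rfl (f := Rc.dem) (g := fun _ => 0) fun r' a =>
        if_pos (t1 r' a).1.1]
      simpa [add_comm] using Multiset.filter_add_not (fun d : T3 => d.1 = r.p) pd)
    (fun p a b => (a.dvd_mul.mp b).imp_right fun c r' d =>
      (Nat.prime_dvd_prime_iff_eq a hl.pp).mp c ▸ (Multiset.mem_filter.mp d).2)
    (dvd_mul_right _ _) fun _ _ => dvd_mul_left _ _
  refine ⟨_, _, _, a, fun k hk => ?_⟩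
  simp only [tryP, cnd_eq, Bool.and_eq_true, Nat.beq_eq, Nat.blt_eq, mod0, Nat.mul_eq] at hk
  rw [if_neg k1, if_pos k2, if_neg hp, if_neg fun a => s1 (a.trans h.dvd), n2] at hk
  have t4 : 0 < T.card := Multiset.card_pos_iff_exists_mem.mpr
    ⟨r, Multiset.mem_filter.mpr ⟨hr, h0, rfl⟩⟩
  have t5 : T.card ≤ m := (Multiset.card_le_card (Multiset.filter_le _ _)).trans_eq h.card
  have := rng_spec hk (i := T.card - 1) (by omega)
  rw [frc_eq', Nat.succ_eq_add_one, Nat.sub_add_cancel t4, if_pos] at this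
  · rwa [ty]
  have t6 : ((pd : Multiset T3).filter (·.1 = r.p)).card = T.card * len S := by
    rw [← t3, Multiset.map_congr rfl fun r' a => (t1 r' a).2.2, Multiset.map_const',
      Multiset.sum_replicate, Multiset.card_nsmul, len_eq, ← hS, Multiset.coe_card]
  simp only [Nat.ble_eq, Bool.or_eq_true, Nat.blt_eq, Nat.sub_eq, Nat.mul_eq, Nat.add_eq, ← s4]
  refine ⟨⟨⟨⟨dvd_mul_right _ _, by rw [mul_comm]; exact Nat.mul_le_mul_left _ s3⟩,
    by rw [zero_add, t6]⟩, a0⟩, ?_⟩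
  rcases (Nat.le_of_dvd (by have := hl.five; omega) hl.pc).lt_or_eq with c | c
  · exact Or.inl c
  · refine Or.inr ?_
    change T.card * e / T.card + _ ≤ K
    rw [Nat.mul_div_cancel_left _ t4]
    exact s5 c.symm

theorem tryM_sound (M : Model K g A) (h : Inv g A ⟨m, num, den, lc, lt, L, sg, pd, ac⟩ B R)
    (hr : r ∈ R) (h0 : r.q ≠ 0) (hm : ∀ r' ∈ R, r.c < r'.c ∨ r.c = r'.c ∧ r.ty ≤ r'.ty) :
    Nx g A fun k => tryM k m num den lc lt L sg pd ac r.c := by
  classical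
  have hl := h.loc M r hr
  obtain ⟨q1, q2, q3, q4, q5⟩ := hl.mix h0
  have ty : r.ty = 0 := if_neg h0
  have c5 := hl.five
  obtain ⟨-, a⟩ := h.step M (T := {r}) (R' := R.erase r) (sg' := sg)
    (pd' := (r.p, r.q, r.c) :: (r.q, r.p, r.c) :: pd) (ac' := (r.c, r.p, r.q) :: ac)
    (by simp [hr]) hr (by simp) hm (by simp [Rc.tri, ← Multiset.cons_coe])
    (by simp [q5, Rc.dem, h0, ← Multiset.cons_coe, add_comm (pd : Multiset T3)])
    (fun _ _ => Or.inl) dvd_rfl fun a => (h0 a).elim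
  have ns : ∀ d ∈ r.dem, d.1.Prime → ¬ d.1 ∣ sg := fun d a b c => by
    obtain ⟨r', a1, -, a2⟩ := exists_isP (h.loc M) (d := d) (h.bal ▸ Multiset.mem_add.mpr
      (Or.inr (Multiset.mem_join.mpr ⟨_, Multiset.mem_map_of_mem _ hr, a⟩)))
    exact h.sg _ b c r' a1 a2
  refine ⟨_, _, _, a, fun k hk => ?_⟩
  simp only [tryM, frc_eq', cnd_eq, Bool.and_eq_true, Bool.or_eq_true, Nat.beq_eq, Nat.blt_eq, mod0,
    Nat.mul_eq] at hk
  have e1 : r.c.minFac = r.p := le_antisymm (Nat.minFac_le_of_dvd hl.pp.two_le hl.pc) (by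
    rcases q4 _ (Nat.minFac_prime (by omega)) (Nat.minFac_dvd _) with e | e <;> omega)
  rcases mf_spec r.c with e2 | e2
  · have : strip 0 64 r.c = r.c := by
      change (Bool.rec r.c _ (Nat.beq (r.c % 0) 0) : ℕ) = _
      rw [rec_eq, if_neg (by simp; omega)]
    rw [e2, this, e2, this, if_neg (by omega), if_neg (by omega)] at hk
    simp at hk
  rw [e2, e1] at hk
  generalize hw : strip r.p 64 r.c = w at hk
  rcases eq_or_ne w 0 with rfl | w0
  · exact absurd hk (by rw [if_neg (by decide), if_neg (by decide)]; decide)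
  obtain ⟨i, w1, w2⟩ := strip_spec r.p 64 r.c (hw ▸ w0)
  rw [hw] at w1 w2
  have w3 : r.q ∣ w := ((Nat.coprime_primes q1 hl.pp).mpr q2.ne').pow_right i
    |>.dvd_of_dvd_mul_left (w1 ▸ q3)
  have w4 : ∀ s, s.Prime → s ∣ w → s = r.q := fun s a b =>
    (q4 s a (w1 ▸ b.mul_left _)).resolve_left fun e => w2 (e ▸ b)
  have w5 : w ≠ 1 := fun e => q1.one_lt.ne' (Nat.dvd_one.mp (e ▸ w3))
  rw [if_neg w5] at hk
  rcases mf_spec w with e3 | e3
  · have : strip 0 64 w = w := by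
      change (Bool.rec w _ (Nat.beq (w % 0) 0) : ℕ) = _
      rw [rec_eq, if_neg (by simpa)]
    rw [e3, this, if_neg w5] at hk
    simp at hk
  rw [e3, w4 _ (Nat.minFac_prime w5) (Nat.minFac_dvd _)] at hk
  generalize hs : strip r.q 64 w = s at hk
  rcases eq_or_ne s 0 with rfl | s0
  · simp at hk
  obtain ⟨j, s1, s2⟩ := strip_spec r.q 64 w (hs ▸ s0)
  rw [hs] at s1 s2
  have s3 : s = 1 := by
    by_contra e
    exact s2 (w4 _ (Nat.minFac_prime e) (s1 ▸ (Nat.minFac_dvd _).mul_left _) ▸ Nat.minFac_dvd _)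
  have := h.key r hr
  rw [if_pos s3, if_neg] at hk
  · simpa [ty] using hk
  · rintro ((a | a) | a)
    · exact ns (r.p, r.q, r.c) (by simp [Rc.dem, h0]) hl.pp a
    · exact ns (r.q, r.p, r.c) (by simp [Rc.dem, h0]) q1 a
    · dsimp only at this; omega

theorem mem_primes {p t e : ℕ} (hp : p.Prime) (h5 : 5 ≤ p) (h : t * e = p - 1) (h' : e + t ≤ 11) :
    p ∈ [5, 7, 11, 13, 17, 19, 23, 29, 31] := by
  have : t * e ≤ 30 := by nlinarith [sq_nonneg (t - e : ℤ)]
  have : p ≤ 31 := by omega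
  clear h h'
  interval_cases p <;> first | decide | exact absurd hp (by decide)

theorem body_sound (M : Model K g A) (h : Inv g A ⟨m, num, den, lc, lt, L, sg, pd, ac⟩ B R)
    (hr : r ∈ R) (hm : ∀ r' ∈ R, r.c < r'.c ∨ r.c = r'.c ∧ r.ty ≤ r'.ty) {ps : List ℕ}
    (hn : ps.Nodup) (hp : ∀ p, p ∈ ps ↔ ∃ d ∈ pd, d.1 = p) {lo hi : ℕ} (h1 : lo ≤ r.c)
    (h2 : r.c ≤ hi) : Nx g A fun k => body K k m num den lc lt L sg pd ac ps (ndp ps pd) lo hi := by
  classical
  have hl := h.loc M r hr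
  have hc : (R.erase r).card + 1 = m := (Multiset.card_erase_add_one hr).trans h.card
  have e0 : (R.map Rc.S).sum = r.S + ((R.erase r).map Rc.S).sum := by
    rw [← Multiset.sum_cons, ← Multiset.map_cons, Multiset.cons_erase hr]
  have nd : r.S = 0 → ∀ U : Finset ℕ, (∀ p ∈ U, p ∉ ps ∧ ∃ d ∈ (R.map Rc.S).sum, d.1 = p) →
      ndp ps pd + U.card < m := fun e U hU => by
    rw [e0, e, zero_add] at hU
    have := ndp_le (fun r a => h.loc M r (Multiset.mem_of_mem_erase a))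
      (by simpa [e0, e] using h.le) hn (fun p => (hp p).mp) U hU
    omega
  by_cases h0 : r.q = 0
  · by_cases hS : r.S = 0
    · obtain ⟨i, e⟩ := hl.eq_mul h0 (S := []) hS.symm
      have e1 : r.c = r.p ^ i := by simpa [lcmS] using e
      refine (tryP_sound M h hr h0 hm (S := []) (rest := pd) hS.symm (by simp [hS])).mono
        fun k hk => ?_
      have n1 := nd hS ∅ (by simp)
      simp only [body, cnd_eq, Bool.and_eq_true, Nat.beq_eq] at hk
      rw [if_neg (show ¬ ndp ps pd = m by omega)] at hk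
      split_ifs at hk with a1 a2
      all_goals
      have ns : ¬ r.p ∣ sg := fun a => h.sg _ hl.pp a r hr ⟨h0, rfl⟩
      have c5 := hl.five
      rcases i with _ | _ | i
      · rw [pow_zero] at e1; omega
      · rw [zero_add, pow_one] at e1
        have hq : ¬ r.p * r.p ∣ r.c := fun a => by
          rw [e1] at a c5
          exact absurd (Nat.le_of_dvd (by omega) a) (by nlinarith only [c5])
        obtain ⟨-, -, e, s3, s4, s5⟩ :=
          M.sing r (h.eq ▸ Multiset.mem_add.mpr (Or.inr hr)) h0 hq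
        have := allN_spec a2.1.1 (mem_primes hl.pp (by omega) s4 ((s5 e1).trans M.le))
        simp only [Bool.or_eq_true, Nat.beq_eq, Nat.blt_eq, mod0] at this
        rw [if_neg (by rintro ((a | a) | a); exacts [by omega, by omega, ns a])] at this
        rwa [e1]
      · have e2 : r.c = r.p * r.p * r.p ^ i := by rw [e1]; ring
        have a3 : atom K k m num den lc lt L sg pd ac lo hi r.p = true := by
          rcases hl.pp.eq_two_or_odd' with a | ⟨j, a⟩
          · exact a ▸ a2.1.2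
          · have := hl.pp.two_le
            obtain ⟨j, rfl⟩ : ∃ i, j = i + 1 := ⟨j - 1, by omega⟩
            have b : r.p = 3 + 2 * j := by omega
            exact b ▸ lp_spec a2.2 j (b ▸ (Nat.le_mul_of_pos_right _ (pow_pos hl.pp.pos i)).trans
              (e2 ▸ h2))
        have := pw_spec hl.pp.pos a3 i (e2 ▸ h1) (e2 ▸ h2)
        simp only [cnd_eq, frc_eq', Bool.and_eq_true, Nat.beq_eq, Nat.blt_eq, mod0] at this
        rw [if_neg ns, if_neg] at this
        · exact e2 ▸ this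
        · rcases mf_spec r.p with a | a
          · omega
          · rw [a, hl.pp.minFac_eq]; omega
    · obtain ⟨S, rest, a1, a2, a3⟩ := spl_spec r.p pd [] [] [] r.S
        (by simpa using h.S_le M hr h0 hm (T := {r}) (by simpa) (by simp))
        fun d a => ⟨(hl.ch d a).1, by simp⟩
      rw [Multiset.coe_nil, add_zero] at a1 a2
      refine (tryP_sound M h hr h0 hm a1 a2).mono fun k hk => ?_
      obtain ⟨d, hd⟩ := Multiset.exists_mem_of_ne_zero hS
      rw [body, cnd_eq] at hk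
      split_ifs at hk with a4
      have a5 := a3 _ (allN_spec a4 ((hp r.p).mpr ⟨d, (a2 ▸ Multiset.mem_add.mpr (Or.inr hd) :
        d ∈ (pd : Multiset T3)), (hl.ch d hd).1⟩))
      obtain ⟨i, e⟩ := hl.eq_mul h0 a1
      rcases S with _ | ⟨b, S⟩
      · exact (hS a1.symm).elim
      · exact e ▸ pw_spec (fuel := 100) (c := lcmS (b :: S)) hl.pp.pos a5 i (e ▸ h1) (e ▸ h2)
  · obtain ⟨q1, q2, q3, q4, q5⟩ := hl.mix h0
    refine (tryM_sound M h hr h0 hm).mono fun k hk => ?_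
    have dm : ∀ d ∈ r.dem, d ∈ (R.map Rc.S).sum := fun d a => h.bal ▸ Multiset.mem_add.mpr
      (Or.inr (Multiset.mem_join.mpr ⟨_, Multiset.mem_map_of_mem _ hr, a⟩))
    have d2 : ∀ p ∈ ({r.p, r.q} : Finset ℕ), ∃ d ∈ (R.map Rc.S).sum, d.1 = p := by
      simp only [Finset.mem_insert, Finset.mem_singleton, forall_eq_or_imp, forall_eq]
      exact ⟨⟨_, dm (r.p, r.q, r.c) (by simp [Rc.dem, h0]), rfl⟩,
        ⟨_, dm (r.q, r.p, r.c) (by simp [Rc.dem, h0]), rfl⟩⟩
    have n1 := nd q5 (({r.p, r.q} : Finset ℕ).filter (· ∉ ps)) fun p a =>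
      ⟨(Finset.mem_filter.mp a).2, d2 p (Finset.mem_filter.mp a).1⟩
    have n2 : 2 < m := by
      have := ndp_le (R := R.erase r) (pd := []) (ps := [])
        (fun r a => h.loc M r (Multiset.mem_of_mem_erase a)) (by simp) (by simp) (by simp)
        {r.p, r.q} fun p a => ⟨by simp, by simpa [e0, q5] using d2 p a⟩
      rw [Finset.card_pair q2.ne] at this
      omega
    have n3 : (({r.p, r.q} : Finset ℕ).filter (· ∈ ps)).card ≤ cdv r.c ps := by
      rw [cdv_eq, ← List.toFinset_card_of_nodup (hn.filter _)]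
      refine Finset.card_le_card fun p a => ?_
      simp only [Finset.mem_filter, Finset.mem_insert, Finset.mem_singleton] at a
      simp only [List.mem_toFinset, List.mem_filter, decide_eq_true_eq]
      exact ⟨a.2, by rcases a.1 with rfl | rfl; exacts [hl.pc, q3]⟩
    have n4 := Finset.card_filter_add_card_filter_not (s := ({r.p, r.q} : Finset ℕ)) (· ∈ ps)
    rw [Finset.card_pair q2.ne] at n4
    simp only [body, cnd_eq, frc_eq', Nat.beq_eq, Nat.blt_eq] at hk
    rw [if_neg (show ¬ ndp ps pd = m by omega), if_neg (show ¬ m < 3 by omega)] at hk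
    split_ifs at hk
    have := rng_spec hk (i := r.c - lo) (by simp only [Nat.sub_eq, Nat.succ_eq_add_one]; omega)
    simp only [Nat.add_eq, Nat.sub_eq, Nat.add_sub_cancel' h1] at this
    rwa [if_neg (by omega)] at this

end

variable {leaf : ℕ → List T3 → Bool}

/-- The conclusion. -/
def Goal (g : ℕ) (A : Multiset Rc) (leaf : ℕ → List T3 → Bool) : Prop :=
  ∃ l : List T3, (l : Multiset T3) = A.map Rc.tri ∧ leaf g l = true

theorem node_sound (M : Model K g A) {s : St} {B R : Multiset Rc} (h : Inv g A s B R) :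
    (∀ k, node K leaf k s = true → Goal g A leaf) ∨ Nx g A fun k => node K leaf k s := by
  obtain ⟨m, n, d, lc, lt, L, sg, pd, ac⟩ := s
  obtain ⟨ps, p1, p2, p3⟩ := ddp_spec pd [] List.nodup_nil
  simp only [List.not_mem_nil, false_or] at p2
  have n1 := ndp_le (h.loc M) h.le p1 (fun p => (p2 p).mp) ∅ (by simp)
  have hc := h.card
  have hd := h.pos
  have hs := h.sum
  dsimp only at hc hd hs n1
  rw [Finset.card_empty, hc] at n1
  have hg : (0 : ℚ) < g := by exact_mod_cast M.gpos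
  have g0 := Nat.gcd_pos_of_pos_right n hd
  obtain ⟨num, den, e1, e2, co, e3, e4⟩ : ∃ num den, n.div (n.gcd d) = num ∧ d.div (n.gcd d) = den ∧
      num.Coprime den ∧ n = n.gcd d * num ∧ d = n.gcd d * den :=
    ⟨_, _, rfl, rfl, Nat.coprime_div_gcd_div_gcd g0, (Nat.mul_div_cancel' (Nat.gcd_dvd_left _ _)).symm,
      (Nat.mul_div_cancel' (Nat.gcd_dvd_right _ _)).symm⟩
  have d0 : 0 < den := Nat.pos_of_mul_pos_left (e4 ▸ hd)
  have d1 : (0 : ℚ) < den := by exact_mod_cast d0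
  have e5 : (num : ℚ) / den = n / d := by
    have : (0 : ℚ) < n.gcd d := by exact_mod_cast g0
    generalize n.gcd d = u at e3 e4 this
    rw [e3, e4]
    push_cast
    field_simp
  have ev : ∀ k, node K leaf k ⟨m, n, d, lc, lt, L, sg, pd, ac⟩ = if m = 0 then
      (if num = 1 then leaf den ac else true) else body K k m num den lc lt L sg pd ac ps
        (ndp ps pd) (if den / num + 1 < lc then lc else den / num + 1) ((m + 1) * den / num) :=
    fun k => by
      simp only [node, frc_eq', p3, e1, e2, cnd_eq, rec_eq, Nat.blt_eq, Nat.beq_eq]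
      rw [if_neg (by omega)]
      rfl
  rcases eq_or_ne m 0 with rfl | m0
  · refine Or.inl fun k hk => ⟨ac, ?_, ?_⟩
    · rw [h.eq, Multiset.card_eq_zero.mp hc, add_zero]; exact h.ac
    · rw [Multiset.card_eq_zero.mp hc, ← e5, Multiset.map_zero, Multiset.sum_zero, zero_add,
        div_eq_div_iff d1.ne' hg.ne', one_mul] at hs
      have e6 : num * g = den := by exact_mod_cast hs
      have e7 : num = 1 := Nat.Coprime.eq_one_of_dvd co (e6 ▸ dvd_mul_right _ _)
      rw [ev, if_pos rfl, if_pos e7] at hk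
      rwa [← one_mul g, ← e7, e6]
  obtain ⟨r, hr, hm⟩ : ∃ r ∈ R, ∀ r' ∈ R, r.c < r'.c ∨ r.c = r'.c ∧ r.ty ≤ r'.ty := by
    classical
    obtain ⟨r, a, b⟩ := R.toFinset.exists_min_image (fun r => toLex (r.c, r.ty))
      (Multiset.toFinset_nonempty.mpr (by rintro rfl; exact m0 hc.symm))
    exact ⟨r, Multiset.mem_toFinset.mp a, fun r' c =>
      Prod.Lex.toLex_le_toLex.mp (b r' (Multiset.mem_toFinset.mpr c))⟩
  have h' : Inv g A ⟨m, num, den, lc, lt, L, sg, pd, ac⟩ B R :=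
    ⟨h.eq, h.ac, h.card, d0, e5.trans h.sum, h.key, h.bal, h.dvd, h.sg, h.sg'⟩
  have hl := h.loc M
  have c0 : (0 : ℚ) < r.c := by have := (hl r hr).five; positivity
  rw [← e5] at hs
  have b1 : den < num * r.c := by
    have := Multiset.single_le_sum (s := R.map fun r => (1 : ℚ) / r.c) (fun x hx => by
      obtain ⟨_, -, rfl⟩ := Multiset.mem_map.mp hx
      positivity) _ (Multiset.mem_map_of_mem _ hr)
    have a : (1 : ℚ) / r.c < num / den := by
      have : (0 : ℚ) < 1 / g := by positivity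
      linarith
    rw [div_lt_div_iff₀ c0 d1, one_mul] at a
    exact_mod_cast a
  have b2 : r.c * num ≤ (m + 1) * den := by
    have := Multiset.sum_le_card_nsmul (R.map fun r => (1 : ℚ) / r.c) (1 / r.c) fun x hx => by
      obtain ⟨r', a, rfl⟩ := Multiset.mem_map.mp hx
      exact one_div_le_one_div_of_le c0 (by exact_mod_cast (hm r' a).elim le_of_lt (·.1.le))
    have a : (1 : ℚ) / g ≤ 1 / r.c := one_div_le_one_div_of_le c0
      (by exact_mod_cast Nat.le_of_dvd M.gpos (hl r hr).dvd)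
    rw [Multiset.card_map, hc, nsmul_eq_mul] at this
    have a : (num : ℚ) / den ≤ (m + 1) / r.c := by
      rw [hs, add_div, div_eq_mul_one_div (m : ℚ)]; linarith
    rw [div_le_div_iff₀ d1 c0, mul_comm] at a
    exact_mod_cast a
  have n0 : 0 < num := Nat.pos_of_mul_pos_right (d0.trans b1)
  refine Or.inr ((body_sound M h' hr hm p1 p2 ?_ ((Nat.le_div_iff_mul_le n0).mpr b2)).mono
    fun k hk => by rwa [ev, if_neg m0] at hk)
  have := h.key r hr
  have := (Nat.div_lt_iff_lt_mul n0).mpr (mul_comm num r.c ▸ b1)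
  dsimp only at *
  split_ifs <;> omega

theorem iter_sound (M : Model K g A) (n : ℕ) {s : St} {B R : Multiset Rc} (h : Inv g A s B R) :
    (∀ k, iter K leaf k n s = true → Goal g A leaf) ∨ Nx g A fun k => iter K leaf k n s := by
  induction n generalizing s B R with
  | zero => exact Or.inr ⟨s, B, R, h, fun _ => id⟩
  | succ n ih =>
    rcases node_sound (leaf := leaf) M h with a | ⟨s', B', R', a, b⟩
    · exact Or.inl fun k => a _
    · exact (ih a).imp (fun c k hk => c k (b _ hk)) fun c => c.mono fun k hk => b _ hk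

theorem iter_goal (M : Model K g A) {n : ℕ} {s : St} {B R : Multiset Rc} (h : Inv g A s B R)
    (hk : iter K leaf (fun _ => false) n s = true) : Goal g A leaf :=
  (iter_sound M n h).elim (fun a => a _ hk) fun ⟨_, _, _, _, b⟩ => nomatch b _ hk

theorem inv_root (M : Model K g A) : Inv g A (root K) 0 A :=
  ⟨(zero_add _).symm, rfl, Nat.eq_sub_of_add_eq M.card, one_pos, by rw [M.sum]; simp [root],
    fun r a => (M.loc r a).five.lt_or_eq.imp_right fun b => ⟨b, Nat.zero_le _⟩,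
    by simpa [root] using M.bal, one_dvd _,
    fun p a b => (a.one_lt.ne' (Nat.dvd_one.mp b)).elim, by simp⟩

/-- A part of the search. -/
noncomputable def part (K : ℕ) (leaf : ℕ → List T3 → Bool) (h : St → ℕ) (j i : ℕ) : Bool :=
  iter K leaf (fun s => cnd (Nat.beq (h s) i) (iter K leaf (fun _ => false) K s) true) j (root K)

theorem goal_of_parts (M : Model K g A) {h : St → ℕ} {j N : ℕ} (hN : ∀ s, h s < N) (h0 : 0 < N)
    (hk : ∀ i < N, part K leaf h j i = true) : Goal g A leaf := by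
  rcases iter_sound (leaf := leaf) M j (inv_root M) with a | ⟨s, B, R, a, b⟩
  · exact a _ (hk 0 h0)
  · have := b _ (hk _ (hN s))
    rw [cnd_eq, if_pos (Nat.beq_eq ▸ rfl)] at this
    exact iter_goal M a this

end CfsgLib.KCl
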