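import Mathlib
import Cfsg.Agent.Lib.KCl.SSound
import Cfsg.Agent.Lib.ChTab.Pair
import Cfsg.Agent.Lib.ChTab.Rat
import Cfsg.Agent.Lib.J4T.KGen
import Cfsg.Agent.Lib.Count.Frobenius

/-!
Orders and centralizer orders of the conjugacy classes of a finite group.
-/

set_option autoImplicit false

namespace CfsgLib.KCl

open Cfsg CfsgLib.ChTab CfsgLib.DefectOne CfsgLib.DefectOne.B43 Subgroup Finset

variable {G : Type*} [Group G]

/-- A representative. -/
noncomputable abbrev rp (κ : ConjClasses G) : G := Quotient.out κ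

theorem mk_rp (κ : ConjClasses G) : ConjClasses.mk (rp κ) = κ := Quotient.out_eq κ

theorem rp_mk (x : G) : IsConj (rp (ConjClasses.mk x)) x :=
  ConjClasses.mk_eq_mk_iff_isConj.mp (mk_rp _)

/-- The order of the elements of a class. -/
noncomputable def od (κ : ConjClasses G) : ℕ := orderOf (rp κ)

/-- The order of the centralizers of the elements of a class. -/
noncomputable def cz (κ : ConjClasses G) : ℕ := cC (rp κ)

theorem od_mk (x : G) : od (ConjClasses.mk x) = orderOf x := PSL2Rec.orderOf_eq_of_isConj (rp_mk x)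

theorem cz_mk (x : G) : cz (ConjClasses.mk x) = cC x := PSL2Rec.card_centralizer_of_isConj (rp_mk x)

theorem cz_dvd (κ : ConjClasses G) : cz κ ∣ Nat.card G := card_subgroup_dvd_card _

theorem od_dvd (κ : ConjClasses G) : od κ ∣ cz κ :=
  Subgroup.orderOf_dvd_natCard _ (mem_centralizer_singleton_iff.mpr rfl)

/-- Powers of `p`. -/
def PP (p n : ℕ) : Prop := ∃ k, n = p ^ k

theorem PP.dvd {p n : ℕ} (h : PP p n) (h1 : n ≠ 1) : p ∣ n := by
  obtain ⟨k, rfl⟩ := h
  exact dvd_pow_self p (by rintro rfl; exact h1 (pow_zero p))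

theorem PP.eq {p n s : ℕ} (h : PP p n) (hp : p.Prime) (hs : s.Prime) (h1 : s ∣ n) : s = p := by
  obtain ⟨k, rfl⟩ := h
  exact (Nat.prime_dvd_prime_iff_eq hs hp).mp (hs.dvd_of_dvd_pow h1)

theorem PP.of {p n : ℕ} (h0 : n ≠ 0) (h : ∀ s, s.Prime → s ∣ n → s = p) : PP p n :=
  ⟨_, Nat.eq_prime_pow_of_unique_prime_dvd h0 fun a b => h _ a b⟩

variable [Finite G]

variable (G) in
/-- The classes. -/
noncomputable def cls : Finset (ConjClasses G) := @univ _ (Fintype.ofFinite _)

theorem mem_cls (κ : ConjClasses G) : κ ∈ cls G := @mem_univ _ (Fintype.ofFinite _) κ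

theorem card_cls : (cls G).card = Nat.card (ConjClasses G) :=
  (@Nat.card_eq_fintype_card _ (Fintype.ofFinite _)).symm

theorem cz_pos (κ : ConjClasses G) : 0 < cz κ := Nat.card_pos

theorem od_pos (κ : ConjClasses G) : 0 < od κ := orderOf_pos _

theorem card_eq_sum (P : ℕ → Prop) [DecidablePred P] :
    Nat.card {x : G // P (orderOf x)} = ∑ κ ∈ cls G with P (od κ), Nat.card G / cz κ := by
  classical
  have := Fintype.ofFinite G
  rw [Nat.card_eq_fintype_card, Fintype.card_subtype, card_eq_sum_card_fiberwise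
    (f := ConjClasses.mk) (t := (cls G).filter fun κ => P (od κ)) fun x hx => by
      simpa [mem_cls, od_mk] using hx]
  refine sum_congr rfl fun κ hκ => ?_
  rw [cz, ← Char.card_isConj_mul_card_centralizer (rp κ), Nat.mul_div_cancel _ Nat.card_pos,
    Nat.card_eq_fintype_card, Fintype.card_subtype]
  congr 1
  ext x
  simp only [mem_filter, mem_univ, true_and, ← ConjClasses.mk_eq_mk_iff_isConj, mk_rp, eq_comm]
  exact and_iff_right_of_imp fun e => by rw [← od_mk, ← e]; exact (mem_filter.mp hκ).2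

theorem filter_od_one : (cls G).filter (od · = 1) = {ConjClasses.mk 1} := by
  ext κ
  simp only [mem_filter, mem_cls, true_and, mem_singleton]
  exact ⟨fun h => by rw [← mk_rp κ, orderOf_eq_one_iff.mp h], fun h => by rw [h, od_mk, orderOf_one]⟩

theorem cz_one : cz (ConjClasses.mk (1 : G)) = Nat.card G := by
  rw [cz_mk, cC, centralizer_eq_top_iff_subset.mpr (by simp), card_top]

theorem card_eq_sum' (P : ℕ → Prop) [DecidablePred P] (h : P 1) :
    Nat.card {x : G // P (orderOf x)} =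
      1 + ∑ κ ∈ cls G with od κ ≠ 1 ∧ P (od κ), Nat.card G / cz κ := by
  rw [card_eq_sum, ← sum_filter_add_sum_filter_not _ (od · = 1), filter_comm, filter_od_one,
    filter_singleton, if_pos (by rwa [od_mk, orderOf_one]), sum_singleton, cz_one,
    Nat.div_self Nat.card_pos, filter_comm, filter_filter]

theorem pp_iff {p : ℕ} (hp : p.Prime) (x : G) :
    PP p (orderOf x) ↔ x ^ p ^ (Nat.card G).factorization p = 1 := by
  rw [← orderOf_dvd_iff_pow_eq_one, Nat.dvd_prime_pow hp]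
  refine ⟨fun ⟨k, h⟩ => ⟨k, ?_, h⟩, fun ⟨k, _, h⟩ => ⟨k, h⟩⟩
  exact (hp.pow_dvd_iff_le_factorization Nat.card_pos.ne').mp (h ▸ orderOf_dvd_natCard x)

theorem pow_dvd_card_pp {p i : ℕ} (hp : p.Prime) (h : p ^ i ∣ Nat.card G) :
    p ^ i ∣ Nat.card {x : G // PP p (orderOf x)} := by
  simp only [pp_iff hp]
  exact (pow_dvd_pow p ((hp.pow_dvd_iff_le_factorization Nat.card_pos.ne').mp h)).trans
    (Count.frobenius_one (Nat.ordProj_dvd _ _))

theorem syl_of {p : ℕ} (hp : p.Prime) {x : G} (h : PP p (orderOf x)) (h1 : orderOf x ≠ 1)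
    (h2 : ¬ p * p ∣ cC x) : Syl p x := by
  have h3 : orderOf x = p := by
    obtain ⟨k, e⟩ := h
    rcases k with _ | _ | k
    · exact (h1 e).elim
    · simpa using e
    · refine (h2 (Dvd.dvd.trans ⟨p ^ k, by rw [e]; ring⟩ (Subgroup.orderOf_dvd_natCard _
        (mem_centralizer_singleton_iff.mpr (rfl : x * x = x * x))))).elim
  refine ⟨hp, h3, fun a => h2 ?_⟩
  simpa [sq] using J4T.K.sq_dvd_cent hp h3 (mem_top x) (by rwa [card_top])

theorem Syl.exists_cent {p : ℕ} {x y : G} (hx : Syl p x) (h : PP p (orderOf y))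
    (h1 : orderOf y ≠ 1) : ∃ z, IsConj y z ∧ CC z = CC x ∧ orderOf y = p := by
  have := Fact.mk hx.prime
  have hy := syl_of hx.prime h h1 fun a => hx.nsq (sq p ▸ a.trans (card_subgroup_dvd_card _))
  obtain ⟨a, ha⟩ := exists_isConj_pow hy hx
  exact ⟨_, ha, CC_pow_unit hx a, hy.ord⟩

open Classical in
theorem Syl.card_mul_ee {p : ℕ} {x : G} (hx : Syl p x) :
    ((cls G).filter fun κ => od κ ≠ 1 ∧ PP p (od κ)).card * ee x = p - 1 := by
  have := Fact.mk hx.prime
  have h1 := card_eq_sum (G := G) fun n => n ≠ 1 ∧ PP p n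
  rw [sum_congr rfl (g := fun _ => ee x * Nat.card (Sylow p G)) fun κ hκ => ?_, sum_const,
    smul_eq_mul, Nat.card_congr (Equiv.subtypeEquivRight (q := fun y => orderOf y = p) fun y =>
      ⟨fun a => (Syl.exists_cent hx a.2 a.1).choose_spec.2.2,
        fun a => by rw [a]; exact ⟨hx.prime.one_lt.ne', 1, (pow_one _).symm⟩⟩),
    PSL2Rec.card_orderOf_eq_prime (card_sylow_eq_p hx), ← mul_assoc, mul_comm] at h1
  · exact (Nat.eq_of_mul_eq_mul_right Nat.card_pos h1).symm
  · obtain ⟨z, a, b, -⟩ := Syl.exists_cent hx (mem_filter.mp hκ).2.2 (mem_filter.mp hκ).2.1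
    rw [cz, cC_eq_of_isConj a, cC, ← index_CC hx, ← b, ← (CC z).card_mul_index,
      Nat.mul_div_cancel_left _ Nat.card_pos]

theorem exists_exp {p : ℕ} (hp : p.Prime) : ∃ n m : ℕ, (∀ z : G, PP p (orderOf (z ^ n))) ∧
    (∀ z : G, ¬ p ∣ orderOf (z ^ m)) ∧ (∀ z : G, z ^ n * z ^ m = z) ∧
      ∀ x y : G, Commute x y → PP p (orderOf x) → ¬ p ∣ orderOf y →
        (x * y) ^ n = x ∧ (x * y) ^ m = y := by
  have h0 : Nat.card G ≠ 0 := Nat.card_pos.ne'
  have hc := Nat.coprime_ordCompl hp h0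
  have e := Nat.ordProj_mul_ordCompl_eq_self (Nat.card G) p
  set a := (Nat.card G).factorization p with ha
  generalize Nat.card G / p ^ a = w at hc e
  have hc' := hc.pow_left a
  obtain ⟨m, h1, h2⟩ := Nat.chineseRemainder hc' 0 1
  obtain ⟨n, h3, h4⟩ := Nat.chineseRemainder hc' 1 0
  have k1 : ∀ y : G, ¬ p ∣ orderOf y ↔ orderOf y ∣ w := fun y =>
    ⟨fun h => ((hp.coprime_iff_not_dvd.mpr h).pow_left a).symm.dvd_of_dvd_mul_left
      (e ▸ orderOf_dvd_natCard y), fun h b => hp.coprime_iff_not_dvd.mp hc (b.trans h)⟩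
  refine ⟨n, m, fun z => ?_, fun z => ?_, fun z => ?_, fun x y c hx hy => ?_⟩
  · obtain ⟨j, rfl⟩ := Nat.modEq_zero_iff_dvd.mp h4
    rw [pp_iff hp, ← pow_mul, mul_right_comm, mul_comm w, e, pow_mul, pow_card_eq_one', one_pow]
  · obtain ⟨j, rfl⟩ := Nat.modEq_zero_iff_dvd.mp h1
    rw [k1, orderOf_dvd_iff_pow_eq_one, ← pow_mul, mul_right_comm, e, pow_mul, pow_card_eq_one',
      one_pow]
  · rw [← pow_add]
    conv_rhs => rw [← pow_one z]
    rw [pow_eq_pow_iff_modEq]
    exact Nat.ModEq.of_dvd (orderOf_dvd_natCard z) (e ▸ (Nat.modEq_and_modEq_iff_modEq_mul hc').mp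
      ⟨by simpa using h3.add h1, by simpa using h4.add h2⟩)
  · rw [pp_iff hp, ← orderOf_dvd_iff_pow_eq_one] at hx
    rw [k1] at hy
    rw [c.mul_pow, c.mul_pow, pow_eq_pow_iff_modEq.mpr (h3.of_dvd hx),
      pow_eq_pow_iff_modEq.mpr (h4.of_dvd hy), pow_eq_pow_iff_modEq.mpr (h1.of_dvd hx),
      pow_eq_pow_iff_modEq.mpr (h2.of_dvd hy)]
    simp

theorem val_map {α β : Type*} (s : Finset α) (f : α → β) : s.val.map f = ∑ a ∈ s, {f a} := by
  rw [sum_eq_multiset_sum, ← Multiset.sum_map_singleton (s.val.map f), Multiset.map_map]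
  rfl

variable (G) in
open Classical in
/-- The classes of nontrivial `p'`-elements. -/
noncomputable def sec (p : ℕ) : Multiset T3 :=
  ((cls G).filter fun κ => od κ ≠ 1 ∧ ¬ p ∣ od κ).val.map fun κ => (p, (od κ).minFac, cz κ)

theorem sec_congr {H : Type*} [Group H] [Finite H] (e : G ≃* H) (p : ℕ) : sec G p = sec H p := by
  classical
  let f : ConjClasses G ≃ ConjClasses H := Quotient.congr e.toEquiv fun a b =>
    ⟨fun h => e.toMonoidHom.map_isConj h, fun h => by
      have := e.symm.toMonoidHom.map_isConj h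
      simp only [MulEquiv.toMonoidHom_eq_coe, MonoidHom.coe_coe, MulEquiv.toEquiv_eq_coe,
        EquivLike.coe_coe, MulEquiv.symm_apply_apply] at this
      exact this⟩
  have h : ∀ κ, od (f κ) = od κ ∧ cz (f κ) = cz κ := fun κ => by
    obtain ⟨x, rfl⟩ := ConjClasses.mk_surjective κ
    change od (ConjClasses.mk (e x)) = _ ∧ cz (ConjClasses.mk (e x)) = _
    rw [od_mk, od_mk, cz_mk, cz_mk, e.orderOf_eq]
    refine ⟨rfl, (Nat.card_congr (e.toEquiv.subtypeEquiv fun y => ?_)).symm⟩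
    simp only [mem_centralizer_singleton_iff, MulEquiv.toEquiv_eq_coe, EquivLike.coe_coe,
      ← map_mul, e.apply_eq_iff_eq]
  rw [sec, sec, val_map, val_map]
  exact sum_equiv f (fun κ => by simp only [mem_filter, mem_cls, h]) fun κ _ => by simp only [h]

theorem sec_isConj {x y : G} (h : IsConj x y) (p : ℕ) : sec (CC x) p = sec (CC y) p := by
  obtain ⟨g, rfl⟩ := isConj_iff.mp h
  refine sec_congr (((MulAut.conj g).subgroupMap (CC x)).trans (MulEquiv.subgroupCongr ?_)) p
  ext z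
  rw [← MulEquiv.toMonoidHom_eq_coe, Subgroup.mem_map_equiv, mem_centralizer_singleton_iff, mem_centralizer_singleton_iff,
    ← (MulAut.conj g).apply_eq_iff_eq, map_mul, map_mul, MulEquiv.apply_symm_apply]
  rfl

end CfsgLib.KCl
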