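import Mathlib
import Cfsg.Agent.Lib.ChTab.Inv2
import Cfsg.Agent.Lib.ChTab.Rows
import Cfsg.Agent.Lib.Dickson.Subfield
import Cfsg.Agent.S4503
import Cfsg.Agent.S4504
import Cfsg.Agent.S4508

/-!
A test for the existence of the degrees and of the values on an involution of the characters of a
simple group with self-centralizing elements of prime order.
-/

set_option autoImplicit false

namespace CfsgLib.KCl

open Cfsg CfsgLib.Char CfsgLib.Block CfsgLib.DefectOne CfsgLib.DefectOne.B43 CfsgLib.Tuan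
  CfsgLib.MathRec CfsgLib.ChTab Subgroup Finset

/-- The multisets of `n` degrees with a given sum of squares. -/
noncomputable def dgo (good : List ℕ → Bool) (n : ℕ) : List ℕ → ℕ → List ℕ → Bool :=
  Nat.rec (fun _ s a => Bool.rec true (good a) (Nat.beq s 0)) (fun n ih L s a =>
    List.rec true (fun d L' ih' => Bool.rec (Bool.rec false ih' (Bool.rec
      (frc (Nat.sub s (Nat.mul d d)) fun s' => ih (d :: L') s' (d :: a)) true
        (Nat.blt s (Nat.mul d d)))) true (Nat.blt (Nat.mul (Nat.mul d d) (Nat.succ n)) s)) L) n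

theorem dgo_sound {good : List ℕ → Bool} (n : ℕ) : ∀ (L : List ℕ) (s : ℕ) (a : List ℕ)
    (M : Multiset ℕ), dgo good n L s a = true → L.Pairwise (· ≥ ·) → (∀ d ∈ M, d ∈ L) →
      M.card = n → (M.map fun d => d * d).sum = s →
        ∃ l : List ℕ, (l : Multiset ℕ) = M + a ∧ good l = true := by
  induction n with
  | zero =>
    intro L s a M h _ _ h1 h2
    obtain rfl := Multiset.card_eq_zero.mp h1
    obtain rfl : 0 = s := h2
    exact ⟨a, by simp, h⟩
  | succ n ih =>
    intro L s a M h h0 h1 h2 h3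
    induction L with
    | nil =>
      obtain ⟨d, hd⟩ := Multiset.card_pos_iff_exists_mem.mp (show 0 < M.card by omega)
      cases h1 d hd
    | cons d L ih' =>
      change (Bool.rec (Bool.rec false (dgo good (n + 1) L s a) (Bool.rec
        (dgo good n (d :: L) (s - d * d) (d :: a)) true (Nat.blt s (d * d)))) true
          (Nat.blt (d * d * (n + 1)) s) : Bool) = true at h
      have h4 : s ≤ d * d * (n + 1) := by
        rw [← h3, ← h2, mul_comm, ← smul_eq_mul, ← Multiset.card_map fun d => d * d]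
        refine Multiset.sum_le_card_nsmul _ _ fun x hx => ?_
        obtain ⟨e, he, rfl⟩ := Multiset.mem_map.mp hx
        have : e ≤ d := (List.mem_cons.mp (h1 e he)).elim le_of_eq
          (List.rel_of_pairwise_cons h0)
        exact Nat.mul_le_mul this this
      rw [show Nat.blt (d * d * (n + 1)) s = false by
        rw [Bool.eq_false_iff, Ne, Nat.blt_eq]; omega] at h
      by_cases hd : d ∈ M
      · obtain ⟨M, rfl⟩ := Multiset.exists_cons_of_mem hd
        rw [Multiset.map_cons, Multiset.sum_cons] at h3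
        rw [show Nat.blt s (d * d) = false by rw [Bool.eq_false_iff, Ne, Nat.blt_eq]; omega] at h
        obtain ⟨l, h5, h6⟩ := ih (d :: L) (s - d * d) (d :: a) M
          (by cases e : dgo good n (d :: L) (s - d * d) (d :: a); exacts [by rw [e] at h; exact h, rfl])
          h0 (fun e he => h1 e (Multiset.mem_cons_of_mem he)) (by simpa using h2) (by omega)
        exact ⟨l, by simp [h5, ← Multiset.cons_coe], h6⟩
      · refine ih' ?_ h0.of_cons fun e he =>
          (List.mem_cons.mp (h1 e he)).resolve_left fun f => hd (f ▸ he)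
        generalize (Bool.rec (dgo good n (d :: L) (s - d * d) (d :: a)) true
          (Nat.blt s (d * d)) : Bool) = b at h
        cases b
        · cases h
        · exact h

/-- The columns with a given sum of squares which are orthogonal to the degrees. -/
noncomputable def vcol (V : ℕ → List ℤ) (fin : List (ℕ × ℤ) → Bool) (l : List ℕ) :
    ℕ → ℤ → List (ℕ × ℤ) → Bool :=
  List.rec (fun s u R => Bool.rec true (Bool.rec true (fin R) (decide (u = 0))) (Nat.beq s 0))
    (fun d _ ih s u R => allL (V d) fun a => frc (Nat.mul a.natAbs a.natAbs) fun q =>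
      Bool.rec (frc (Nat.sub s q) fun s' => frcI (u + d * a) fun u' => ih s' u' ((d, a) :: R)) true
        (Nat.blt s q)) l

theorem vcol_sound {V : ℕ → List ℤ} {fin : List (ℕ × ℤ) → Bool} {β : Type*} (d : β → ℕ)
    (a : β → ℤ) (l : List β) (hV : ∀ b ∈ l, a b ∈ V (d b)) {s : ℕ} {u : ℤ} {R : List (ℕ × ℤ)}
    (hs : (l.map fun b => a b * a b).sum = s) (hu : u + (l.map fun b => d b * a b).sum = 0)
    (h : vcol V fin (l.map d) s u R = true) :
    fin ((l.map fun b => (d b, a b)).reverse ++ R) = true := by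
  induction l generalizing s u R with
  | nil =>
    obtain rfl : s = 0 := by simpa using hs.symm
    obtain rfl : u = 0 := by simpa using hu
    exact h
  | cons b l ih =>
    change allL (V (d b)) (fun a => Bool.rec (frcI (u + d b * a) fun u' =>
      vcol V fin (l.map d) (s - a.natAbs * a.natAbs) u' ((d b, a) :: R)) true
        (Nat.blt s (a.natAbs * a.natAbs))) = true at h
    rw [allL_eq, List.all_eq_true] at h
    have h1 := h _ (hV b List.mem_cons_self)
    rw [List.map_cons, List.sum_cons] at hs hu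
    have h2 : 0 ≤ (l.map fun b => a b * a b).sum :=
      List.sum_nonneg fun x hx => by
        obtain ⟨_, -, rfl⟩ := List.mem_map.mp hx
        exact mul_self_nonneg _
    rw [← Int.natAbs_mul_self] at hs
    rw [show Nat.blt s ((a b).natAbs * (a b).natAbs) = false by
      rw [Bool.eq_false_iff, Ne, Nat.blt_eq]; omega, frcI_eq] at h1
    simpa using ih (fun c hc => hV c (List.mem_cons_of_mem _ hc)) (by omega) (by omega) h1

theorem eq_of_sums {α β : Type*} {s : Finset β} {r : β → α} {l : List α}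
    (h : ∀ F : α → ℤ, ∑ b ∈ s, F (r b) = (l.map F).sum) : s.val.map r = l := by
  classical
  refine Multiset.ext.mpr fun a => Nat.cast_injective (R := ℤ) ?_
  have := h fun x => if a = x then 1 else 0
  rw [sum_boole] at this
  rw [Multiset.count_map, ← filter_val, card_val, this, Multiset.coe_count]
  clear this h
  induction l with
  | nil => rfl
  | cons b l ih =>
    rw [List.map_cons, List.sum_cons, List.count_cons, Nat.cast_add, ← ih, add_comm]
    by_cases e : a = b
    · rw [e]; simp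
    · simp [e, Ne.symm e]

/-- The conditions for the degrees. -/
def okd (g : ℕ) (ps : List (ℕ × ℕ)) (d : ℕ) : Bool :=
  ps.all fun q => vok q.1 ((q.1 - 1) / q.2) d &&
    (Nat.blt q.1 (2 * d + 1) || Nat.beq (2 * g) (q.1 * (q.1 ^ 2 - 1))) &&
      (Nat.beq (q.2 % 2) 0 || !Nat.beq (d + 1) q.1)

/-- The possible class multiplication coefficients. -/
def prn (p e : ℕ) : List ℕ := if e % 2 = 0 then [0, p] else [0]

/-- Violation of the quadratic relations. -/
def bad (g c : ℕ) (ps : List (ℕ × ℕ)) (R : List (ℕ × ℤ)) : Bool :=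
  ps.any fun q => (prn q.1 ((q.1 - 1) / q.2)).all fun n =>
    (((1, 1) :: R).map fun r : ℕ × ℤ => ((g / r.1 : ℕ) : ℤ) * (r.2 * r.2) *
      vf q.1 ((q.1 - 1) / q.2) r.1).sum != (q.1 - 1) * (n * (c * c))

/-- The characters of defect zero. -/
noncomputable def rest (g S c T k p : ℕ) (ps : List (ℕ × ℕ)) (ex : List ℕ → Bool)
    (R : List (ℕ × ℤ)) : Bool :=
  frc (1 + (R.map fun r => r.1 * r.1).sum) fun sd =>
    frc (1 + (R.map fun r => r.2.natAbs * r.2.natAbs).sum) fun sv => Nat.blt c sv ||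
      dgo (fun l => ex (l ++ R.map (·.1)) || vcol (vals g c T) (bad g c ps) l (c - sv)
        (1 + (R.map fun r => (r.1 : ℤ) * r.2).sum) R) (k - 1 - R.length)
        ((divs g S).filter fun d => Nat.beq (d % p) 0 && okd g ps d) (g - sd) []

/-- The test. -/
noncomputable def chk (g S c T k p t : ℕ) (ps : List (ℕ × ℕ)) (ex : List ℕ → Bool) : Bool :=
  Nat.blt g ((S + 1) ^ 2) && Nat.ble c ((T + 1) ^ 2) && b0check g S p (okd g ps) (fun z l =>
    (prn p ((p - 1) / t)).all fun n => colChk2 g t z l (vals g c T) (n * (c * c))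
      (rest g S c T k p ps ex)) ((p - 1) / t) 1

variable {G : Type*} [Group G] [Finite G]

theorem pair_sc {p : ℕ} [hp : Fact p.Prime] {x : G} (h : SC p x) (hp2 : p ≠ 2) {s : G}
    (hs : s * s = 1) : ∃ n ∈ prn p (ee x), ∑ χ : IrrCharacter G, (Nat.card G / dg χ : ℕ) *
      (cv s χ * cv s χ) * vv p x χ = (p - 1) * (n * (cC s * cC s)) := by
  rw [prn]
  split_ifs with he
  swap
  · exact ⟨0, by simp, by
      rw [sum_pair_vv h.syl hp2 (Nat.odd_iff.mpr (by omega)) hs hs]; simp⟩
  have key : ∀ n : ℕ, (∀ a : (ZMod p)ˣ, pairN s s (x ^ (a : ZMod p).val) = n) →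
      ∑ χ : IrrCharacter G, (Nat.card G / dg χ : ℕ) * (cv s χ * cv s χ) * vv p x χ =
        (p - 1) * (n * (cC s * cC s)) := fun n hn => by
    apply Int.cast_injective (α := ℂ)
    simp only [Int.cast_sum, Int.cast_mul, Int.cast_natCast, vv_cast h.syl, vC, mul_sum]
    rw [sum_comm, sum_congr rfl fun a _ => sum_pair_val (ratl_of_sq hs) (ratl_of_sq hs) _]
    simp only [hn, sum_const, card_univ, ZMod.card_units, nsmul_eq_mul,
      Nat.cast_sub hp.out.one_lt.le]
    push_cast
    ring
  by_cases e : ∃ a, IsConj s a ∧ a * x * a⁻¹ = x⁻¹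
  · obtain ⟨a, h1, h2⟩ := e
    exact ⟨p, by simp, key p fun b => pairN_sc (h.of_orderOf (orderOf_pow_unit h.syl b)) hp2 hs h1
      (by rw [← conj_pow, h2, inv_pow])⟩
  · refine ⟨0, by simp, key 0 fun b => by_contra fun f => e ?_⟩
    obtain ⟨⟨a, h1, h2⟩⟩ := (Nat.card_ne_zero.mp f).1
    refine ⟨a, h1, inverts_of_pair hs hs h1 h2 ?_⟩
    rw [← (h.of_orderOf (orderOf_pow_unit h.syl b)).cent]
    exact mem_CC.mpr ((Commute.refl x).pow_left _)

/-- Self-centralizing elements. -/
def Scs (G : Type*) [Group G] (ps : List (ℕ × ℕ)) : Prop :=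
  ∀ q ∈ ps, q.1 ≠ 2 ∧ ∃ y : G, SC q.1 y ∧ q.2 * ee y = q.1 - 1

theorem ee_eq' {q t : ℕ} {y : G} (h : SC q y) (e : t * ee y = q - 1) : (q - 1) / t = ee y := by
  have := h.prime.two_le
  rw [← e, Nat.mul_div_cancel_left _ (Nat.pos_of_ne_zero (by rintro rfl; omega))]

variable [IsSimpleGroup G]

theorem perf (hna : ∃ a b : G, a * b ≠ b * a) : _root_.commutator G = ⊤ :=
  (IsSimpleGroup.eq_bot_or_eq_top_of_normal _ inferInstance).resolve_left fun h =>
    let ⟨a, b, e⟩ := hna
    e (commutatorElement_eq_one_iff_mul_comm.mp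
      (mem_bot.mp (h ▸ commutator_mem_commutator (mem_top a) (mem_top b))))

theorem okd_of (hna : ∃ a b : G, a * b ≠ b * a) {ps : List (ℕ × ℕ)} (h : Scs G ps)
    {χ : IrrCharacter G} (h1 : χ ≠ irrOne G) : okd (Nat.card G) ps (dg χ) = true := by
  refine List.all_eq_true.mpr fun q hq => ?_
  obtain ⟨h2, y, hy, e⟩ := h q hq
  have := Fact.mk hy.prime
  have hd : q.1 ∣ Nat.card G := hy.ord ▸ orderOf_dvd_natCard y
  have hn : ∀ H : Subgroup G, H.Normal → Nat.card H ≠ q.1 := fun H a b => by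
    rcases a.eq_bot_or_eq_top with rfl | rfl
    · exact hy.prime.one_lt.ne (by simpa using b)
    · obtain ⟨a, c, f⟩ := hna
      exact f ((isCyclic_of_prime_card (card_top.symm.trans b)).isMulCommutative.is_comm.comm a c)
  have hf : ∀ g : G, (χ : G → ℂ) g = (χ : G → ℂ) 1 → g = 1 := fun g a =>
    eq_one_of_norm_eq hna h1 (by rw [a, ← dg_cast, Complex.norm_natCast])
  simp only [Bool.and_eq_true, Bool.or_eq_true, Nat.blt_eq, Nat.beq_eq, Bool.not_eq_true',
    ee_eq' hy e, ← Bool.not_eq_true]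
  refine ⟨⟨(vf_of_sc hy (ee_ne_one_of_perfect hy.syl (perf hna)) χ).1, ?_⟩, ?_⟩
  · refine (Cfsg.Agent.S4503.result q.1 hy.prime hd hy.syl.nsq hn _ (irr_isCharacter χ)
      hf).lt_or_eq.imp_right fun a => ?_
    obtain ⟨f⟩ := Cfsg.Agent.S4504.result q.1 hy.prime hd hy.syl.nsq hn _ (irr_isCharacter χ) hf a.symm
    have h3 := Dickson.card_psl (K := ZMod q.1)
    rw [← Nat.card_congr f.toEquiv, Nat.card_zmod, ← index_eq_card,
      ((center G).normal_of_characteristic.eq_bot_or_eq_top).resolve_right fun b =>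
        let ⟨a, c, f⟩ := hna
        f (mem_center_iff.mp (b ▸ mem_top c) a), index_bot,
      Nat.gcd_eq_left (by have := hy.prime.eq_two_or_odd; omega)] at h3
    exact h3
  · by_contra a
    push Not at a
    rcases Cfsg.Agent.S4508.result q.1 hy.prime y hy.ord hy.cent q.2 (Nat.eq_of_mul_eq_mul_right
      (ee_pos y) (hy.classes_mul_ee.trans e.symm)) χ a.2 with b | b
    · exact a.1 (Nat.even_iff.mp b)
    · rw [perf hna, index_top] at b
      exact absurd b (by decide)

theorem chk_sound [DecidableEq (IrrCharacter G)] (hna : ∃ a b : G, a * b ≠ b * a) {S T p t : ℕ} {ps : List (ℕ × ℕ)}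
    (hps : Scs G ps) (hp : (p, t) ∈ ps) {j : G} (hj : orderOf j = 2) {ex : List ℕ → Bool}
    (hex : ∀ l : List ℕ, (l : Multiset ℕ) = (univ.erase (irrOne G)).val.map dg → ex l = false) :
    chk (Nat.card G) S (cC j) T (Nat.card (ConjClasses G)) p t ps ex = false := by
  classical
  by_contra h
  simp only [chk, Bool.not_eq_false, Bool.and_eq_true, Nat.blt_eq, Nat.ble_eq] at h
  obtain ⟨⟨hS, hT⟩, h⟩ := h
  obtain ⟨p2, x, hx, e⟩ := hps _ hp
  have := Fact.mk hx.prime
  obtain ⟨ζ, hζ, ⟨D⟩⟩ := exists_data hx.syl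
  have j2 := Invol.mul_self_of_orderOf_two hj
  have hr := ratl_of_sq j2
  rw [ee_eq' hx e, ← kk_of_sc hx] at h
  obtain ⟨l, hl, h⟩ := b0_sound hna hx.syl hζ D rfl hS (fun χ a _ => okd_of hna hps a) h
  obtain ⟨n, hn, hq⟩ := pair_sc hx p2 j2
  obtain ⟨R, h, -, hR⟩ := col_sound D hx hζ hl hr
    (by rw [hj]; exact fun a => p2 ((Nat.prime_dvd_prime_iff_eq hx.prime Nat.prime_two).mp a))
    (fun χ a _ => mem_vals hna hj hT a) hq e (colChk_of (List.all_eq_true.mp h n hn))
  set M := univ.filter fun χ : IrrCharacter G => p ∣ dg χ with hM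
  have o1 : dg (irrOne G) = 1 := by exact_mod_cast (cv_one (irrOne G)).symm.trans (cv_irrOne 1)
  have m1 : ∀ χ ∈ M, χ ≠ irrOne G := fun χ a b =>
    hx.prime.one_lt.ne' (Nat.dvd_one.mp (o1 ▸ b ▸ (mem_filter.mp a).2))
  have all : ∀ F : ℕ × ℤ → ℤ, ∑ χ, F (dg χ, cv j χ) =
      F (1, 1) + (R.map F).sum + ∑ χ ∈ M, F (dg χ, cv j χ) := fun F => by
    rw [← hR, add_comm, sum_filter_add_sum_filter_not]
  have a1 := all fun _ => 1
  have a2 := all fun r => r.1 * r.1
  have a3 := all fun r => r.2 * r.2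
  have a4 := all fun r => r.1 * r.2
  rw [sum_dg_sq_int] at a2
  rw [sum_cv_sq hr] at a3
  rw [sum_dg_cv hr (Invol.ne_one_of_orderOf_two hj)] at a4
  dsimp only at a2 a3 a4
  simp only [sum_const, card_univ, ← Nat.card_eq_fintype_card, card_irr_eq_card_conjClasses,
    List.map_const', List.sum_replicate, nsmul_eq_mul, mul_one] at a1
  have b2 : (((R.map fun r => r.1 * r.1).sum : ℕ) : ℤ) = (R.map fun r => (r.1 : ℤ) * r.1).sum := by
    simp [List.map_map, Function.comp_def]
  have b3 : (((R.map fun r => r.2.natAbs * r.2.natAbs).sum : ℕ) : ℤ) =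
      (R.map fun r => r.2 * r.2).sum := by simp [List.map_map, Function.comp_def]
  have b4 : 0 ≤ ∑ χ ∈ M, cv j χ * cv j χ := sum_nonneg fun _ _ => mul_self_nonneg _
  have b5 : ((∑ χ ∈ M, dg χ * dg χ : ℕ) : ℤ) = ∑ χ ∈ M, (dg χ : ℤ) * dg χ := by push_cast; rfl
  simp only [rest, show ∀ x k, frc x k = k x from fun _ _ => rfl, Bool.or_eq_true, Nat.blt_eq] at h
  obtain ⟨l0, c1, c2⟩ := dgo_sound _ _ _ _ (M.val.map dg) (h.resolve_left (by omega))
    ((divs_sorted _ _).1.filter _) (fun d a => by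
      obtain ⟨χ, b, rfl⟩ := Multiset.mem_map.mp a
      refine List.mem_filter.mpr ⟨mem_divs_dg rfl hS χ, ?_⟩
      rw [Bool.and_eq_true, Nat.beq_eq]
      exact ⟨Nat.mod_eq_zero_of_dvd (mem_filter.mp b).2, okd_of hna hps (m1 χ b)⟩)
    (by rw [Multiset.card_map, card_val]; omega)
    (by rw [Multiset.map_map]; change ∑ χ ∈ M, dg χ * dg χ = _; omega)
  obtain ⟨lc, c3, rfl⟩ := exists_list_map (c1.trans (add_zero _))
  have sm : ∀ H : IrrCharacter G → ℤ, (lc.map H).sum = ∑ χ ∈ M, H χ := fun H => by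
    rw [← Multiset.sum_coe, ← Multiset.map_coe, c3]; rfl
  rcases Bool.or_eq_true _ _ ▸ c2 with c | c
  swap
  · have c4 := vcol_sound dg (cv j) lc
      (fun χ a => mem_vals hna hj hT (m1 χ (show χ ∈ M.val from c3 ▸ a))) (by rw [sm]; omega)
      (by rw [sm]; omega) c
    obtain ⟨q, hq, c5⟩ := List.any_eq_true.mp c4
    obtain ⟨q2, y, hy, e'⟩ := hps q hq
    have := Fact.mk hy.prime
    obtain ⟨n, hn, hq⟩ := pair_sc hy q2 j2
    rw [ee_eq' hy e'] at c5
    refine bne_iff_ne.mp (List.all_eq_true.mp c5 n hn) (Eq.trans ?_ hq)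
    simp only [(vf_of_sc hy (ee_ne_one_of_perfect hy.syl (perf hna)) _).2]
    rw [all fun r => ((Nat.card G / r.1 : ℕ) : ℤ) * (r.2 * r.2) * vf q.1 (ee y) r.1, ← sm]
    simp [List.map_map, Function.comp_def, add_assoc, add_comm]
  · rw [hex _ ?_] at c
    · cases c
    refine (eq_of_sums fun F => ?_).symm
    have := all fun r => F r.1
    rw [← add_sum_erase _ _ (mem_univ (irrOne G)), o1, ← sm, add_assoc, add_right_inj] at this
    rw [this, List.map_append, List.sum_append, List.map_map, List.map_map, add_comm]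
    rfl

end CfsgLib.KCl
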