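import Mathlib
import Cfsg.Agent.Lib.KCl.SSound
import Cfsg.Agent.Lib.KCl.Col
import Cfsg.Agent.Lib.ChTab.Rows2

/-!
The tests for the solutions found by the search.
-/

set_option autoImplicit false

namespace CfsgLib.KCl

open CfsgLib.ChTab CfsgLib.MathRec

/-- Parameters of the test `chk`. -/
structure Ent where
  /-- order -/
  g : ℕ
  /-- bound for the degrees -/
  S : ℕ
  /-- order of the centralizer of an involution -/
  c : ℕ
  /-- bound for the values -/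
  T : ℕ
  /-- a prime -/
  p : ℕ
  /-- the number of classes of elements of order `p` -/
  t : ℕ
  /-- primes with the numbers of classes -/
  ps : List (ℕ × ℕ)

/-- The values on a rational element of order `3`. -/
def val3 (d : ℕ) : List ℤ :=
  (irange 8).filter fun a => (d - a) % 3 == 0 && Nat.blt a.natAbs d && (320 * a) % d == 0

/-- There is no column with a given sum of squares which is orthogonal to the degrees. -/
noncomputable def vz (V : ℕ → List ℤ) (l : List ℕ) : ℕ → ℕ → ℤ → Bool :=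
  List.rec (fun s _ u => Bool.rec true (decide (u ≠ 0)) (Nat.beq s 0))
    (fun d _ ih s D u => cnd (Nat.blt (Nat.mul D s) (Nat.mul u.natAbs u.natAbs)) true
      (frc (Nat.sub D (Nat.mul d d)) fun D' => allL (V d) fun a =>
        frc (Nat.mul a.natAbs a.natAbs) fun q => cnd (Nat.blt s q) true
          (frc (Nat.sub s q) fun s' => frcI (u + d * a) (ih s' D')))) l

theorem vz_sound {V : ℕ → List ℤ} {β : Type*} (d : β → ℕ) (a : β → ℤ) (l : List β)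
    (hV : ∀ b ∈ l, a b ∈ V (d b)) {s D : ℕ} {u : ℤ} (hs : (l.map fun b => a b * a b).sum = s)
    (hD : (l.map fun b => (d b : ℤ) * d b).sum = D) (hu : u + (l.map fun b => d b * a b).sum = 0) :
    vz V (l.map d) s D u = false := by
  induction l generalizing s D u with
  | nil =>
    obtain rfl : s = 0 := by simpa using hs.symm
    obtain rfl : u = 0 := by simpa using hu
    rfl
  | cons b l ih =>
    have cs := Finset.sum_mul_sq_le_sq_mul_sq Finset.univ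
      (fun i : Fin (b :: l).length => (d (b :: l)[i] : ℤ)) fun i => a (b :: l)[i]
    simp only [sq, Fin.getElem_fin] at cs
    rw [Fin.sum_univ_fun_getElem _ fun b => (d b : ℤ) * a b, Fin.sum_univ_fun_getElem _
      fun b => (d b : ℤ) * d b, Fin.sum_univ_fun_getElem _ fun b => a b * a b, hs, hD,
      eq_neg_of_add_eq_zero_right hu, neg_mul_neg, ← Int.natAbs_mul_self] at cs
    change cnd (Nat.blt (D * s) (u.natAbs * u.natAbs)) true (allL (V (d b)) fun a =>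
      cnd (Nat.blt s (a.natAbs * a.natAbs)) true (frcI (u + d b * a)
        (vz V (l.map d) (s - a.natAbs * a.natAbs) (D - d b * d b)))) = false
    rw [cnd_eq, if_neg (by rw [Nat.blt_eq]; exact_mod_cast cs.not_gt), allL_eq, List.all_eq_false]
    refine ⟨_, hV b List.mem_cons_self, ?_⟩
    rw [List.map_cons, List.sum_cons] at hs hu hD
    have nn : ∀ f : β → ℤ, 0 ≤ (l.map fun b => f b * f b).sum := fun f =>
      List.sum_nonneg fun x hx => by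
        obtain ⟨_, -, rfl⟩ := List.mem_map.mp hx
        exact mul_self_nonneg _
    have h2 := nn a
    have h3 := nn fun b => d b
    rw [← Int.natAbs_mul_self] at hs
    rw [← Nat.cast_mul] at hD
    rw [cnd_eq, if_neg (by rw [Nat.blt_eq]; omega), frcI_eq,
      ih (fun c hc => hV c (List.mem_cons_of_mem _ hc)) (by omega) (by omega) (by omega)]
    decide

/-- The test for such an element. -/
noncomputable def col3 (l : List ℕ) : Bool :=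
  frcN (l.insertionSort (· ≥ ·)) fun l => vz val3 l 80 25919 1

/-- The test for an entry. -/
noncomputable def Ent.ok (K : ℕ) (ex : List ℕ → Bool) (e : Ent) : Bool :=
  e.ps.contains (e.p, e.t) && chk e.g e.S e.c e.T K e.p e.t e.ps ex

/-- The entry fits. -/
def Ent.fit (g c : ℕ) (ac : List T3) (e : Ent) : Bool :=
  Nat.beq e.g g && Nat.beq e.c c && e.ps.all fun q => Nat.blt 0 q.2 && ac.count (q.1, q.1, 0) == q.2

/-- The number of `p`-elements. -/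
def npp (g p : ℕ) (l : List T3) : ℕ := 1 + ((l.filter fun r => r.2 == (p, 0)).map (g / ·.1)).sum

/-- The tests for an involution in the center of a Sylow subgroup. -/
noncomputable def inv (K g : ℕ) (tb : List Ent) (ac : List T3) : Bool :=
  ac.all fun r => r.2 != (2, 0) || r.1 % ppw 2 g 64 1 != 0 ||
    Nat.blt ((K - 1) * (g - 1)) ((g / r.1) ^ 2) || tb.any (Ent.fit g r.1 ac)

/-- The numerical tests. -/
noncomputable def num (K g : ℕ) (tb : List Ent) (ac : List T3) : Bool :=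
  g != (ac.map (·.1)).foldr Nat.lcm 1 || ac.any (·.1 == g) ||
    ac.any (fun r => npp g r.2.1 ac == ppw r.2.1 g 64 1) || inv K g tb ac

/-- No element of order `6`. -/
def no6 (ac : List T3) : Bool := ac.all (·.2 != (2, 3))

/-- No element of order `4`. -/
def ex2 (ac : List T3) : Bool :=
  ac.all fun r => (r.2 != (2, 0) || r.1 % 3 == 0) && (r.2 != (2, 3) || r.1 % 4 != 0)

/-- The entry for the order `25920`. -/
def e3 : Ent := ⟨25920, 160, 192, 13, 5, 1, [(5, 1)]⟩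

/-- The remaining cases. -/
noncomputable def spc (K g : ℕ) (ac : List T3) : Bool :=
  [1296, 1920, 2520].contains g || (Nat.ble g 1092 && !([504, 660, 1092].contains g)) ||
    [(9, 504), (9, 1092), (10, 7920), (11, 2448)].contains (K, g) ||
    (no6 ac && [(10, 20160), (11, 29120), (11, 6048)].contains (K, g)) ||
    (ex2 ac && [6048, 48384].contains g) ||
    ((K, g) == (11, 25920) && ac.count (81, 3, 0) == 1 &&
      (ac.all fun r => r.2 != (3, 0) || r.1 % 81 != 0 || r.1 == 81) && inv K g [e3] ac)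

/-- The test for the solutions. -/
noncomputable def leaf (K : ℕ) (tb : List Ent) (g : ℕ) (ac : List T3) : Bool :=
  num K g tb ac || spc K g ac

/-- The table. -/
def tb9 : List Ent :=
  [⟨1120, 33, 32, 5, 7, 1, [(5, 1), (7, 1)]⟩,
   ⟨1344, 36, 192, 13, 7, 2, [(7, 2)]⟩,
   ⟨20160, 141, 64, 7, 5, 2, [(5, 2), (7, 2)]⟩]

/-- The table. -/
def tb10 : List Ent :=
  [⟨1120, 33, 32, 5, 7, 1, [(5, 1), (7, 1)]⟩,
   ⟨1260, 35, 84, 9, 5, 2, [(5, 2)]⟩,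
   ⟨1344, 36, 64, 7, 7, 2, [(7, 2)]⟩,
   ⟨1344, 36, 192, 13, 7, 2, [(7, 2)]⟩,
   ⟨2160, 46, 16, 3, 5, 2, [(5, 2)]⟩,
   ⟨2160, 46, 48, 6, 5, 2, [(5, 2)]⟩,
   ⟨4032, 63, 64, 7, 7, 3, [(7, 3)]⟩,
   ⟨4320, 65, 32, 5, 5, 1, [(5, 1)]⟩,
   ⟨5600, 74, 32, 5, 7, 3, [(7, 3)]⟩,
   ⟨5760, 75, 384, 19, 5, 2, [(5, 2)]⟩,
   ⟨8960, 94, 256, 15, 5, 2, [(5, 2), (7, 1)]⟩,
   ⟨16320, 127, 64, 7, 17, 2, [(5, 1), (17, 2)]⟩,
   ⟨29120, 170, 64, 7, 13, 3, [(5, 1), (7, 3), (13, 3)]⟩,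
   ⟨30720, 175, 2048, 45, 5, 1, [(5, 1)]⟩,
   ⟨32256, 179, 512, 22, 7, 3, [(7, 3)]⟩,
   ⟨232960, 482, 512, 22, 7, 3, [(5, 2), (7, 3), (13, 2)]⟩]

/-- The table. -/
def tb11 : List Ent :=
  [⟨504, 22, 24, 4, 7, 3, [(7, 3)]⟩,
   ⟨1120, 33, 32, 5, 7, 1, [(5, 1), (7, 1)]⟩,
   ⟨1120, 33, 32, 5, 7, 1, [(7, 1)]⟩,
   ⟨1320, 36, 24, 4, 11, 1, [(5, 1), (11, 1)]⟩,
   ⟨1344, 36, 64, 7, 7, 2, [(7, 2)]⟩,
   ⟨1344, 36, 192, 13, 7, 2, [(7, 2)]⟩,
   ⟨1512, 38, 24, 4, 7, 1, [(7, 1)]⟩,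
   ⟨2160, 46, 16, 3, 5, 2, [(5, 2)]⟩,
   ⟨2160, 46, 48, 6, 5, 2, [(5, 2)]⟩,
   ⟨2160, 46, 144, 11, 5, 2, [(5, 2)]⟩,
   ⟨2160, 46, 432, 20, 5, 2, [(5, 2)]⟩,
   ⟨2560, 50, 512, 22, 5, 2, [(5, 2)]⟩,
   ⟨2912, 53, 32, 5, 7, 2, [(7, 2), (13, 4)]⟩,
   ⟨4032, 63, 64, 7, 7, 3, [(7, 3)]⟩,
   ⟨4032, 63, 192, 13, 7, 3, [(7, 3)]⟩,
   ⟨4224, 64, 128, 11, 11, 1, [(11, 1)]⟩,
   ⟨4320, 65, 32, 5, 5, 1, [(5, 1)]⟩,
   ⟨5600, 74, 32, 5, 7, 3, [(7, 3)]⟩,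
   ⟨5760, 75, 128, 11, 5, 2, [(5, 2)]⟩,
   ⟨5760, 75, 384, 19, 5, 2, [(5, 2)]⟩,
   ⟨5824, 76, 64, 7, 13, 2, [(7, 1), (13, 2)]⟩,
   ⟨7168, 84, 1024, 31, 7, 3, [(7, 3)]⟩,
   ⟨7920, 88, 48, 6, 5, 1, [(5, 1), (11, 2)]⟩,
   ⟨7920, 88, 144, 11, 11, 2, [(5, 1), (11, 2)]⟩,
   ⟨8960, 94, 256, 15, 5, 2, [(5, 2), (7, 1)]⟩,
   ⟨12096, 109, 192, 13, 7, 1, [(7, 1)]⟩,
   ⟨12960, 113, 96, 9, 5, 2, [(5, 2)]⟩,
   ⟨13440, 115, 128, 11, 7, 3, [(7, 3)]⟩,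
   ⟨13440, 115, 640, 25, 7, 3, [(7, 3)]⟩,
   ⟨15600, 124, 48, 6, 13, 3, [(13, 3)]⟩,
   ⟨16320, 127, 64, 7, 17, 2, [(5, 1), (17, 2)]⟩,
   ⟨16320, 127, 192, 13, 17, 2, [(5, 1), (17, 2)]⟩,
   ⟨20160, 141, 64, 7, 5, 2, [(5, 2), (7, 2)]⟩,
   ⟨21504, 146, 1024, 31, 7, 1, [(7, 1)]⟩,
   ⟨21504, 146, 3072, 55, 7, 1, [(7, 1)]⟩,
   ⟨30720, 175, 2048, 45, 5, 1, [(5, 1)]⟩,
   ⟨32256, 179, 512, 22, 7, 3, [(7, 3)]⟩,
   ⟨34560, 185, 256, 15, 5, 2, [(5, 2)]⟩,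
   ⟨40320, 200, 128, 11, 5, 1, [(5, 1), (7, 1)]⟩,
   ⟨86016, 293, 4096, 63, 7, 2, [(7, 2)]⟩,
   ⟨86016, 293, 12288, 110, 7, 2, [(7, 2)]⟩,
   ⟨92160, 303, 2048, 45, 5, 2, [(5, 2)]⟩,
   ⟨96768, 311, 1536, 39, 7, 1, [(7, 1)]⟩,
   ⟨232960, 482, 512, 22, 7, 3, [(5, 2), (7, 3), (13, 2)]⟩,
   ⟨258048, 507, 4096, 63, 7, 3, [(7, 3)]⟩,
   ⟨322560, 567, 1024, 31, 5, 2, [(5, 2), (7, 1)]⟩,
   ⟨491520, 701, 32768, 181, 5, 1, [(5, 1)]⟩,
   ⟨2064384, 1436, 32768, 181, 7, 3, [(7, 3)]⟩,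
   ⟨4177920, 2043, 16384, 127, 17, 2, [(5, 1), (17, 2)]⟩]

/-- A hash function. -/
noncomputable def hs (s : St) : ℕ :=
  Nat.mod (Nat.mod (Nat.add (Nat.mul s.n 7919) (Nat.add (Nat.mul s.d 104729) s.lt)) 1000003) 16

end CfsgLib.KCl
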