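import Mathlib
import Cfsg.Agent.Lib.KCl.Cls
import Cfsg.Agent.Lib.ChTab.Must

/-!
The data of the conjugacy classes of a finite group satisfy the conditions of the search.
-/

set_option autoImplicit false

namespace CfsgLib.KCl

open Cfsg CfsgLib.ChTab CfsgLib.DefectOne CfsgLib.DefectOne.B43 CfsgLib.Tuan Subgroup Finset

open Classical in
/-- The second prime factor. -/
noncomputable def q2 (n : ℕ) : ℕ :=
  if PP n.minFac n then 0 else (n / n.minFac ^ n.factorization n.minFac).minFac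

theorem q2_eq_zero {n : ℕ} : q2 n = 0 ↔ PP n.minFac n := by
  rw [q2]
  split_ifs with h
  · simp [h]
  · simpa [h] using (Nat.minFac_pos _).ne'

theorem q2_spec {n : ℕ} (h0 : n ≠ 0) (h1 : n ≠ 1) (h : q2 n ≠ 0) :
    (q2 n).Prime ∧ n.minFac < q2 n ∧ q2 n ∣ n := by
  have h2 := mt q2_eq_zero.mpr h
  have hp := Nat.minFac_prime h1
  have e := Nat.ordProj_mul_ordCompl_eq_self n n.minFac
  have hc := Nat.not_dvd_ordCompl hp h0
  rw [q2, if_neg h2]
  generalize n / n.minFac ^ n.factorization n.minFac = w at e hc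
  have h3 := Nat.minFac_prime (show w ≠ 1 by rintro rfl; exact h2 ⟨_, by rw [mul_one] at e; exact e.symm⟩)
  have h4 : w.minFac ∣ n := e ▸ (Nat.minFac_dvd w).mul_left _
  exact ⟨h3, (Nat.minFac_le_of_dvd h3.two_le h4).lt_of_ne fun a => hc (a ▸ Nat.minFac_dvd w), h4⟩

theorem PP.minFac {p n : ℕ} (h : PP p n) (hp : p.Prime) (h1 : n ≠ 1) : n.minFac = p :=
  h.eq hp (Nat.minFac_prime h1) (Nat.minFac_dvd n)

variable {G : Type*} [Group G]

variable (G) in
/-- No element order has three prime factors. -/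
def H3 : Prop := ∀ (z : G) (p q s : ℕ), p.Prime → q.Prime → s.Prime → p ∣ orderOf z →
  q ∣ orderOf z → s ∣ orderOf z → p = q ∨ p = s ∨ q = s

variable [Finite G]

open Classical in
/-- The data of a class. -/
noncomputable def rc (κ : ConjClasses G) : Rc :=
  ⟨cz κ, (od κ).minFac, q2 (od κ), if q2 (od κ) = 0 then sec (CC (rp κ)) (od κ).minFac else 0⟩

variable (G) in
/-- The data of the nontrivial classes. -/
noncomputable def AA : Multiset Rc := ((cls G).filter (od · ≠ 1)).val.map rc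

theorem mem_AA {r : Rc} : r ∈ AA G ↔ ∃ κ : ConjClasses G, od κ ≠ 1 ∧ rc κ = r := by
  simp [AA, mem_cls]

theorem isP_rc {κ : ConjClasses G} (h : od κ ≠ 1) {p : ℕ} (hp : p.Prime) :
    (rc κ).isP p ↔ PP p (od κ) :=
  ⟨fun a => a.2 ▸ q2_eq_zero.mp a.1, fun a =>
    ⟨q2_eq_zero.mpr (by rwa [a.minFac hp h]), a.minFac hp h⟩⟩

open Classical in
theorem filter_AA {p : ℕ} (hp : p.Prime) : (AA G).filter (Rc.isP p) =
    ((cls G).filter fun κ => od κ ≠ 1 ∧ PP p (od κ)).val.map rc := by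
  rw [AA, Multiset.filter_map, ← filter_val, filter_filter]
  exact congrArg (fun s : Finset _ => s.val.map rc)
    (filter_congr fun κ _ => and_congr_right fun a => isP_rc a hp)

theorem H3.cent (h : H3 G) {z : G} {p q s : ℕ} (hp : p.Prime) (hq : q.Prime) (hs : s.Prime)
    (hpq : p ≠ q) (h1 : p ∣ orderOf z) (h2 : q ∣ orderOf z) (h3 : s ∣ cC z) : s = p ∨ s = q := by
  by_cases h4 : s ∣ orderOf z
  · have := h z p q s hp hq hs h1 h2 h4; omega
  have := Fact.mk hs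
  obtain ⟨⟨y, hy⟩, ho⟩ := exists_prime_orderOf_dvd_card' s h3
  rw [Subgroup.orderOf_mk] at ho
  have e := (mem_CC.mp hy).orderOf_mul_eq_mul_orderOf_of_coprime
    (ho ▸ (hs.coprime_iff_not_dvd.mpr h4).symm)
  have := h (z * y) p q s hp hq hs (e ▸ h1.mul_right _) (e ▸ h2.mul_right _)
    (by rw [e, ho]; exact dvd_mul_left _ _)
  omega

omit [Finite G] in
theorem od_mul {p : ℕ} (hp : p.Prime) {x y : G} (hc : Commute x y) (hx : PP p (orderOf x))
    (hy : ¬ p ∣ orderOf y) : orderOf (x * y) = orderOf x * orderOf y := by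
  obtain ⟨k, e⟩ := hx
  exact hc.orderOf_mul_eq_mul_orderOf_of_coprime (e ▸ (hp.coprime_iff_not_dvd.mpr hy).pow_left k)

theorem H3.pp (h : H3 G) {p : ℕ} (hp : p.Prime) {x : G} (hx : PP p (orderOf x)) (h1 : orderOf x ≠ 1)
    {κ : ConjClasses (CC x)} (h2 : od κ ≠ 1) (h3 : ¬ p ∣ od κ) : PP (od κ).minFac (od κ) := by
  refine PP.of (od_pos κ).ne' fun s hs a => ?_
  have e := od_mul hp (mem_CC.mp (rp κ).2) hx (by rwa [Subgroup.orderOf_coe])
  rw [Subgroup.orderOf_coe] at e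
  rcases h _ p s _ hp hs (Nat.minFac_prime h2) (e ▸ (hx.dvd h1).mul_right _) (e ▸ a.mul_left _)
    (e ▸ (Nat.minFac_dvd _).mul_left _) with b | b | b
  exacts [(h3 (b ▸ a)).elim, (h3 (b ▸ Nat.minFac_dvd _)).elim, b]

open Classical in
theorem H3.sec_filter (h : H3 G) {p q : ℕ} (hp : p.Prime) (hq : q.Prime) (hpq : p ≠ q) {x : G}
    (hx : PP p (orderOf x)) (h1 : orderOf x ≠ 1) : (sec (CC x) p).filter (·.2.1 = q) =
      ((cls (CC x)).filter fun κ => od κ ≠ 1 ∧ PP q (od κ)).val.map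
        fun κ => (p, (od κ).minFac, cz κ) := by
  rw [sec, Multiset.filter_map, ← filter_val, filter_filter]
  exact congrArg (fun s : Finset _ => s.val.map _) (filter_congr fun κ _ =>
    ⟨fun a => ⟨a.1.1, a.2 ▸ h.pp hp hx h1 a.1.1 a.1.2⟩,
      fun a => ⟨⟨a.1, fun b => hpq (a.2.eq hq hp b)⟩, a.2.minFac hq a.1⟩⟩)

theorem mem_sec {p : ℕ} {d : T3} :
    d ∈ sec G p ↔ ∃ κ : ConjClasses G, (od κ ≠ 1 ∧ ¬ p ∣ od κ) ∧ (p, (od κ).minFac, cz κ) = d := by
  simp [sec, mem_cls]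

theorem loc_rc (h : H3 G) {κ : ConjClasses G} (h1 : od κ ≠ 1) (h5 : 5 ≤ cz κ) :
    Loc (Nat.card G) (rc κ) := by
  classical
  have hp := Nat.minFac_prime h1
  have hS : ∀ d ∈ (rc κ).S, PP (od κ).minFac (od κ) ∧ (rc κ).S = sec (CC (rp κ)) (od κ).minFac ∧
      ∃ μ : ConjClasses (CC (rp κ)), (od μ ≠ 1 ∧ ¬ (od κ).minFac ∣ od μ) ∧
        ((od κ).minFac, (od μ).minFac, cz μ) = d := fun d hd => by
    by_cases h0 : q2 (od κ) = 0
    · exact ⟨q2_eq_zero.mp h0, if_pos h0, mem_sec.mp (by rwa [rc, if_pos h0] at hd)⟩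
    · rw [rc, if_neg h0] at hd; cases hd
  refine ⟨h5, cz_dvd κ, hp, (Nat.minFac_dvd _).trans (od_dvd κ), fun h0 => ?_, fun d hd => ?_,
    fun h0 s i hs a b => ?_, fun d hd i a => ?_, fun d hd a => ?_⟩
  · obtain ⟨a, b, c⟩ := q2_spec (od_pos κ).ne' h1 h0
    exact ⟨a, b, c.trans (od_dvd κ), fun s hs => h.cent hp a hs b.ne (Nat.minFac_dvd _) c, if_neg h0⟩
  · obtain ⟨-, -, μ, -, rfl⟩ := hS d hd
    exact ⟨rfl, cz_dvd μ⟩
  · obtain ⟨z, c, e⟩ := exists_central (G := CC (rp κ)) hs i.succ_ne_zero b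
    refine ⟨_, (if_pos h0 : (rc κ).S = _) ▸ mem_sec.mpr ⟨ConjClasses.mk z, ?_, rfl⟩, by rwa [cz_mk]⟩
    rw [od_mk, c]
    exact ⟨hs.one_lt.ne', fun f => a ((Nat.prime_dvd_prime_iff_eq hp hs).mp f).symm⟩
  · obtain ⟨b, c, μ, e, rfl⟩ := hS d hd
    have hq := Nat.minFac_prime e.1
    rw [c, h.sec_filter hp hq (fun f => e.2 (f ▸ Nat.minFac_dvd _)) b h1, Multiset.map_map]
    have := pow_dvd_card_pp (G := CC (rp κ)) hq a
    rwa [card_eq_sum' _ ⟨0, rfl⟩] at this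
  · obtain ⟨b, c, μ, e, rfl⟩ := hS d hd
    have hq := Nat.minFac_prime e.1
    rw [c, h.sec_filter hp hq (fun f => e.2 (f ▸ Nat.minFac_dvd _)) b h1, Multiset.card_map]
    exact Dvd.intro _ (Syl.card_mul_ee (syl_of hq (h.pp hp b h1 e.1 e.2) e.1 a))

omit [Finite G] in
theorem cC_mul {x : G} (y : CC x) {n m : ℕ} (h1 : (x * y) ^ n = x) (h2 : (x * y) ^ m = y) :
    cC (x * y) = cC y := by
  refine Nat.card_congr ⟨fun u => ⟨⟨u, mem_CC.mpr
    (by have := (mem_CC.mp u.2).pow_left n; rwa [h1] at this)⟩, mem_CC.mpr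
    (Subtype.ext (by have := (mem_CC.mp u.2).pow_left m; rwa [h2] at this))⟩, fun u => ⟨u.1, mem_CC.mpr
      ((mem_CC.mp u.1.2).mul_left (congrArg Subtype.val (mem_CC.mp u.2)))⟩, fun _ => rfl, fun _ => rfl⟩

theorem bal_AA (h : H3 G) : ((AA G).map Rc.dem).sum = ((AA G).map Rc.S).sum := by
  classical
  have e1 : ((AA G).map Rc.S).sum = ∑ i ∈ ((cls G).filter fun κ => od κ ≠ 1 ∧ q2 (od κ) = 0).sigma
      (fun κ => (cls (CC (rp κ))).filter fun μ => od μ ≠ 1 ∧ ¬ (od κ).minFac ∣ od μ),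
      {((od i.1).minFac, (od i.2).minFac, cz i.2)} := by
    rw [AA, Multiset.map_map, sum_sigma, ← filter_filter, sum_filter fun κ => q2 (od κ) = 0]
    exact sum_congr rfl fun κ _ => by simp only [Function.comp, rc, sec, val_map]
  have e2 : ((AA G).map Rc.dem).sum = ∑ i ∈ ((cls G).filter fun κ => od κ ≠ 1 ∧ q2 (od κ) ≠ 0).sigma
      (fun κ => ({(od κ).minFac, q2 (od κ)} : Finset ℕ)),
      {(i.2, (od i.1).minFac + q2 (od i.1) - i.2, cz i.1)} := by
    rw [AA, Multiset.map_map, sum_sigma, ← filter_filter, sum_filter fun κ => q2 (od κ) ≠ 0]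
    refine sum_congr rfl fun κ a => ?_
    simp only [Function.comp, rc, Rc.dem, ne_eq, ite_not]
    by_cases b : q2 (od κ) = 0
    · simp [b]
    · simp [b, sum_pair (q2_spec (od_pos κ).ne' (mem_filter.mp a).2 b).2.1.ne]
  rw [e1, e2]
  have key : ∀ (κ : ConjClasses G) (μ : ConjClasses (CC (rp κ))), od κ ≠ 1 → q2 (od κ) = 0 →
      od μ ≠ 1 → ¬ (od κ).minFac ∣ od μ → ∀ n, od (ConjClasses.mk (rp κ * rp μ)) = n → n ≠ 1 ∧
        q2 n ≠ 0 ∧ ((od κ).minFac = n.minFac ∧ (od μ).minFac = q2 n ∨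
          (od κ).minFac = q2 n ∧ (od μ).minFac = n.minFac) := fun κ μ a b c d n e => by
    have hp := Nat.minFac_prime a
    have hq := Nat.minFac_prime c
    have ne : (od κ).minFac ≠ (od μ).minFac := fun f => d (f ▸ Nat.minFac_dvd _)
    rw [od_mk] at e
    have e' := od_mul hp (mem_CC.mp (rp μ).2) (q2_eq_zero.mp b) (by rwa [Subgroup.orderOf_coe])
    rw [Subgroup.orderOf_coe] at e'
    have d1 : (od κ).minFac ∣ n := e ▸ e' ▸ (Nat.minFac_dvd _).mul_right _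
    have d2 : (od μ).minFac ∣ n := e ▸ e' ▸ (Nat.minFac_dvd _).mul_left _
    have n1 : n ≠ 1 := fun f => hp.one_lt.ne' (Nat.dvd_one.mp (f ▸ d1))
    have n2 : q2 n ≠ 0 := fun f => ne (((q2_eq_zero.mp f).eq (Nat.minFac_prime n1) hp d1).trans
      ((q2_eq_zero.mp f).eq (Nat.minFac_prime n1) hq d2).symm)
    subst e
    obtain ⟨f1, f2, f3⟩ := q2_spec (orderOf_pos _).ne' n1 n2
    have := h _ _ _ _ (Nat.minFac_prime n1) f1 hp (Nat.minFac_dvd _) f3 d1
    have := h _ _ _ _ (Nat.minFac_prime n1) f1 hq (Nat.minFac_dvd _) f3 d2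
    exact ⟨n1, n2, by omega⟩
  refine (sum_bij (fun i _ => ⟨ConjClasses.mk (rp i.1 * rp i.2), (od i.1).minFac⟩) ?_ ?_ ?_ ?_).symm
  · rintro ⟨κ, μ⟩ a
    simp only [mem_sigma, mem_filter, mem_cls, true_and, mem_insert, mem_singleton] at a ⊢
    obtain ⟨b, c, d⟩ := key κ μ a.1.1 a.1.2 a.2.1 a.2.2 _ rfl
    exact ⟨⟨b, c⟩, d.imp (·.1) (·.1)⟩
  · rintro ⟨κ, μ⟩ a ⟨κ', μ'⟩ a' e
    simp only [mem_sigma, mem_filter, mem_cls, true_and] at a a'
    simp only [Sigma.mk.injEq, heq_eq_eq, ConjClasses.mk_eq_mk_iff_isConj, isConj_iff] at e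
    obtain ⟨⟨g, e⟩, e'⟩ := e
    obtain ⟨n, m, -, -, -, k⟩ := exists_exp (G := G) (Nat.minFac_prime a.1.1)
    obtain ⟨k1, k2⟩ := k _ _ (mem_CC.mp (rp μ).2) (q2_eq_zero.mp a.1.2)
      (by rw [Subgroup.orderOf_coe]; exact a.2.2)
    obtain ⟨k3, k4⟩ := k _ _ (mem_CC.mp (rp μ').2) (e' ▸ q2_eq_zero.mp a'.1.2)
      (by rw [Subgroup.orderOf_coe, e']; exact a'.2.2)
    rw [← e, conj_pow, k1] at k3
    rw [← e, conj_pow, k2] at k4
    obtain rfl : κ = κ' := by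
      rw [← mk_rp κ, ← mk_rp κ']; exact ConjClasses.mk_eq_mk_iff_isConj.mpr (isConj_iff.mpr ⟨g, k3⟩)
    obtain rfl : μ = μ' := by
      rw [← mk_rp μ, ← mk_rp μ']
      exact ConjClasses.mk_eq_mk_iff_isConj.mpr (isConj_iff.mpr
        ⟨⟨g, mem_centralizer_singleton_iff.mpr (mul_inv_eq_iff_eq_mul.mp k3)⟩, Subtype.ext k4⟩)
    rfl
  · rintro ⟨κ, s⟩ a
    simp only [mem_sigma, mem_filter, mem_cls, true_and, mem_insert, mem_singleton] at a
    obtain ⟨f1, f2, f3⟩ := q2_spec (od_pos κ).ne' a.1.1 a.1.2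
    have hs : s.Prime ∧ s ∣ od κ := by
      rcases a.2 with rfl | rfl
      exacts [⟨Nat.minFac_prime a.1.1, Nat.minFac_dvd _⟩, ⟨f1, f3⟩]
    obtain ⟨n, m, k1, k2, k3, -⟩ := exists_exp (G := G) hs.1
    obtain ⟨g, hg⟩ := isConj_iff.mp (rp_mk (rp κ ^ n)).symm
    have b1 : od (ConjClasses.mk (rp κ ^ n)) ≠ 1 := fun e => k2 (rp κ) (by
      rw [od_mk, orderOf_eq_one_iff] at e
      have := k3 (rp κ)
      rw [e, one_mul] at this
      rw [this]; exact hs.2)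
    have b2 : PP s (od (ConjClasses.mk (rp κ ^ n))) := od_mk (rp κ ^ n) ▸ k1 _
    let y : CC (rp (ConjClasses.mk (rp κ ^ n))) := ⟨g * rp κ ^ m * g⁻¹, mem_CC.mpr (by
      rw [← hg]; exact (Commute.pow_pow_self _ _ _).map (MulAut.conj g))⟩
    have b3 : od (ConjClasses.mk y) = orderOf (rp κ ^ m) := by
      rw [od_mk, ← Subgroup.orderOf_coe]
      exact (PSL2Rec.orderOf_eq_of_isConj (isConj_iff.mpr ⟨g, rfl⟩)).symm
    refine ⟨⟨ConjClasses.mk (rp κ ^ n), ConjClasses.mk y⟩, ?_, ?_⟩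
    · simp only [mem_sigma, mem_filter, mem_cls, true_and, b3, b2.minFac hs.1 b1, q2_eq_zero]
      refine ⟨⟨b1, b2⟩, fun e => a.1.2 (q2_eq_zero.mpr ?_), k2 _⟩
      have := k3 (rp κ)
      rw [orderOf_eq_one_iff.mp e, mul_one] at this
      have b4 : PP s (od κ) := by have := k1 (rp κ); rwa [‹rp κ ^ n = _›] at this
      rwa [b4.minFac hs.1 a.1.1]
    · simp only [Sigma.mk.injEq, heq_eq_eq, b2.minFac hs.1 b1, and_true]
      obtain ⟨u, hu⟩ := isConj_iff.mp (rp_mk y)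
      refine (ConjClasses.mk_eq_mk_iff_isConj.mpr ?_).trans (mk_rp κ)
      refine IsConj.trans (isConj_iff.mpr ⟨(u : G), ?_⟩) (isConj_iff.mpr ⟨g, rfl⟩ : IsConj (rp κ) _).symm
      have hu' := congrArg Subtype.val hu
      simp only [Subgroup.coe_mul, Subgroup.coe_inv, y] at hu'
      conv_rhs => rw [← k3 (rp κ), ← conj_mul, hg, ← hu']
      rw [← conj_mul, ← (mem_CC.mp u.2).eq, mul_inv_cancel_right]
  · rintro ⟨κ, μ⟩ a
    simp only [mem_sigma, mem_filter, mem_cls, true_and] at a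
    obtain ⟨b, c, d⟩ := key κ μ a.1.1 a.1.2 a.2.1 a.2.2 _ rfl
    obtain ⟨n, m, -, -, -, k⟩ := exists_exp (G := G) (Nat.minFac_prime a.1.1)
    obtain ⟨k1, k2⟩ := k _ _ (mem_CC.mp (rp μ).2) (q2_eq_zero.mp a.1.2)
      (by rw [Subgroup.orderOf_coe]; exact a.2.2)
    simp only [cz_mk, cC_mul _ k1 k2, Multiset.singleton_inj, Prod.mk.injEq, true_and]
    exact ⟨by omega, rfl⟩

theorem card_AA : (AA G).card + 1 = Nat.card (ConjClasses G) := by
  rw [AA, Multiset.card_map, card_val, ← card_cls, ← card_filter_add_card_filter_not (s := cls G) (od · = 1),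
    filter_od_one, card_singleton, add_comm]

theorem sum_AA : ((AA G).map fun r => (1 : ℚ) / r.c).sum + 1 / Nat.card G = 1 := by
  have h := card_eq_sum' (G := G) (fun _ => True) trivial
  have g0 : (Nat.card G : ℚ) ≠ 0 := Nat.cast_ne_zero.mpr Nat.card_pos.ne'
  simp only [and_true, Nat.card_congr (Equiv.subtypeUnivEquiv fun _ : G => trivial)] at h
  have h' := congrArg (Nat.cast (R := ℚ)) h
  rw [Nat.cast_add, Nat.cast_sum, sum_congr rfl fun κ _ => Nat.cast_div (cz_dvd κ)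
    (Nat.cast_ne_zero.mpr (cz_pos κ).ne')] at h'
  rw [AA, Multiset.map_map, ← sum_eq_multiset_sum, ← mul_right_inj' g0, mul_add, mul_sum,
    mul_one_div_cancel g0, mul_one, add_comm]
  simpa only [Function.comp, mul_one_div, Nat.cast_one, rc] using h'.symm

theorem sc_of {p : ℕ} {x : G} (h : Syl p x) (e : cC x = p) : SC p x :=
  have := Fact.mk h.prime
  sc_of_kk h (by rw [ChTab.kk, ← cC, e, Nat.div_self h.prime.pos])

open CfsgLib.Char in
theorem model (h : H3 G) (hp : commutator G = ⊤) (h5 : ∀ x : G, x ≠ 1 → 5 ≤ cC x) {K : ℕ}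
    (hK : Nat.card (ConjClasses G) = K) (hK' : K ≤ 11) : Model K (Nat.card G) (AA G) := by
  classical
  refine ⟨Nat.card_pos, hK', card_AA.trans hK, sum_AA, fun r a => ?_, bal_AA h, fun r a b c => ?_⟩
  · obtain ⟨κ, b, rfl⟩ := mem_AA.mp a
    exact loc_rc h b (h5 _ fun e => b (orderOf_eq_one_iff.mpr e))
  replace a := mem_AA.mp a
  obtain ⟨κ, a, rfl⟩ := a
  have hq := Nat.minFac_prime a
  have hs := syl_of hq (q2_eq_zero.mp b) a c
  have := Fact.mk hq
  refine ⟨sq (od κ).minFac ▸ hs.nsq, fun r d e => ?_, ee (rp κ), ?_, ?_, fun _ => ?_⟩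
  · replace d := mem_AA.mp d
    obtain ⟨μ, d, rfl⟩ := d
    obtain ⟨z, f1, f2, -⟩ := Syl.exists_cent hs ((isP_rc d hq).mp e) d
    refine ⟨(cC_eq_of_isConj f1).trans (congrArg (fun H : Subgroup G => Nat.card H) f2), ?_⟩
    change ite _ _ _ = ite _ _ _
    rw [if_pos (show q2 (od μ) = 0 from e.1), if_pos (show q2 (od κ) = 0 from b), sec_isConj f1,
      show (od μ).minFac = _ from e.2]
    exact congrArg (fun H : Subgroup G => sec H _) f2
  · have := ee_pos (rp κ)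
    have := ee_ne_one_of_perfect hs hp
    omega
  · erw [filter_AA hq, Multiset.card_map]
    exact Syl.card_mul_ee hs
  · obtain ⟨ζ, hζ, ⟨D⟩⟩ := exists_data hs
    have h1 := card_Bk D hs hζ
    have h2 : (Bk D).card < K := by
      rw [← hK, ← card_irr_eq_card_conjClasses, Nat.card_eq_fintype_card]
      exact card_lt_card (ssubset_univ_iff.mpr fun e => (mem_Bk.mp (e ▸ mem_univ _)).1 rfl)
    have := ee_pos (rp κ)
    rw [← Syl.card_mul_ee hs, Nat.mul_div_cancel _ this] at h1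
    erw [filter_AA hq, Multiset.card_map, card_val]
    omega

end CfsgLib.KCl
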