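import Mathlib
import Cfsg.Agent.Lib.KCl.LDef
import Cfsg.Agent.Lib.KCl.Mod
import Cfsg.Agent.S0205

/-!
Soundness of the numerical tests.
-/

set_option autoImplicit false

namespace CfsgLib.KCl

open Cfsg CfsgLib.Char CfsgLib.Block CfsgLib.DefectOne CfsgLib.DefectOne.B43 CfsgLib.Tuan
  CfsgLib.MathRec CfsgLib.ChTab Subgroup Finset

variable {G : Type*} [Group G] [Finite G] {ac : List T3}

/-- The numbers of an element. -/
noncomputable def tr (x : G) : T3 := (cC x, (orderOf x).minFac, q2 (orderOf x))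

theorem tri_mk (x : G) : (rc (ConjClasses.mk x)).tri = tr x := by
  simp only [rc, Rc.tri, cz_mk, od_mk, tr]

omit [Finite G] in
theorem tr_pp {p : ℕ} (hp : p.Prime) {x : G} (h : PP p (orderOf x)) (h1 : x ≠ 1) :
    tr x = (cC x, p, 0) := by
  have := h.minFac hp (mt orderOf_eq_one_iff.mp h1)
  rw [tr, q2_eq_zero.mpr (this.symm ▸ h), this]

omit [Finite G] in
theorem tr_prime {p : ℕ} (hp : p.Prime) {x : G} (h : orderOf x = p) : x ≠ 1 ∧ tr x = (cC x, p, 0) :=
  have h1 : x ≠ 1 := fun e => hp.one_lt.ne (by rw [← h, e, orderOf_one])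
  ⟨h1, tr_pp hp ⟨1, h.trans (pow_one p).symm⟩ h1⟩

variable (G) in
/-- The list of the numbers of the classes. -/
def Ac (ac : List T3) : Prop := (ac : Multiset T3) = (AA G).map Rc.tri

theorem Ac.mem (h : Ac G ac) {r : T3} : r ∈ ac ↔ ∃ x : G, x ≠ 1 ∧ tr x = r := by
  rw [← Multiset.mem_coe, h, Multiset.mem_map]
  refine ⟨fun ⟨_, a, b⟩ => ?_, fun ⟨x, a, b⟩ => ⟨_, mem_AA.mpr ⟨ConjClasses.mk x, ?_, rfl⟩, ?_⟩⟩
  · obtain ⟨κ, c, rfl⟩ := mem_AA.mp a
    exact ⟨rp κ, mt orderOf_eq_one_iff.mpr c, b⟩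
  · rwa [od_mk, Ne, orderOf_eq_one_iff]
  · rwa [tri_mk]

theorem Ac.count (h : Ac G ac) (r : T3) :
    ac.count r = ((cls G).filter fun κ => od κ ≠ 1 ∧ r = (rc κ).tri).card := by
  rw [show ac.count r = (ac : Multiset T3).count r by rw [Multiset.coe_count]; congr!, h, AA, Multiset.map_map, Multiset.count_map, ← filter_val, card_val,
    filter_filter]
  rfl

theorem Ac.npp (h : Ac G ac) {p : ℕ} (hp : p.Prime) :
    npp (Nat.card G) p ac = Nat.card {x : G // PP p (orderOf x)} := by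
  classical
  rw [card_eq_sum' _ ⟨0, rfl⟩, KCl.npp, ← Multiset.sum_coe, ← Multiset.map_coe,
    show ((ac.filter _ : List T3) : Multiset T3) = (ac : Multiset T3).filter (·.2 = (p, 0)) by
      simp [Multiset.filter_coe, beq_eq_decide], h, Multiset.filter_map,
    Multiset.filter_congr (q := Rc.isP p) fun r _ => by simp [Rc.tri, and_comm], filter_AA hp,
    Multiset.map_map, Multiset.map_map]
  rfl

theorem bf {j : G} (hj : orderOf j = 2) :
    (Nat.card G / cC j) ^ 2 ≤ (Nat.card (ConjClasses G) - 1) * (Nat.card G - 1) := by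
  classical
  have := Fintype.ofFinite G
  have o1 : dg (irrOne G) = 1 := by exact_mod_cast (cv_one (irrOne G)).symm.trans (cv_irrOne 1)
  have h1 := sum_nu_cv (ratl_one (G := G))
  have h2 := sum_dg_sq_int (G := G)
  have h3 := sum_mul_sq_le_sq_mul_sq (univ.erase (irrOne G)) nu fun χ => (dg χ : ℤ)
  have h4 : ∑ χ ∈ univ.erase (irrOne G), nu χ ^ 2 ≤ (Nat.card (ConjClasses G) - 1 : ℕ) := by
    rw [← card_irr_eq_card_conjClasses, Nat.card_eq_fintype_card, ← card_univ,
      ← card_erase_of_mem (mem_univ (irrOne G)), card_eq_sum_ones, Nat.cast_sum]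
    exact sum_le_sum fun χ _ => by rcases (nu_cases χ).2 with e | e | e <;> simp [e]
  have h5 : Nat.card G / cC j + 1 ≤ sqrtN (1 : G) := by
    rw [← card_isConj_mul_card_centralizer j, Nat.mul_div_cancel _ Nat.card_pos, sqrtN,
      Nat.card_eq_fintype_card, Nat.card_eq_fintype_card, Fintype.card_subtype, Fintype.card_subtype,
      ← card_insert_of_notMem (a := 1) (by simpa using Invol.ne_one_of_orderOf_two hj)]
    refine card_le_card fun a ha => ?_
    simp only [mem_insert, mem_filter, mem_univ, true_and] at ha ⊢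
    exact ha.elim (fun e => by simp [e]) (mul_self_of_isConj (Invol.mul_self_of_orderOf_two hj))
  simp only [cv_one] at h1
  rw [← add_sum_erase _ _ (mem_univ (irrOne G)), o1] at h1 h2
  rw [nu_one] at h1
  simp only [← sq] at h2
  have h6 : 0 < Nat.card G := Nat.card_pos
  zify [h6] at h5 ⊢
  refine (pow_le_pow_left₀ (by positivity) (by omega) 2).trans (h3.trans (mul_le_mul h4 (by omega)
    (sum_nonneg fun _ _ => sq_nonneg _) (by positivity)))

theorem h3_of (h5 : ∀ x : G, x ≠ 1 → 5 ≤ cC x) (hK : Nat.card (ConjClasses G) ≤ 11) : H3 G := by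
  classical
  intro z p q s hp hq hs a b c
  by_contra h
  push Not at h
  have c1 := (Nat.coprime_primes hp hq).mpr h.1
  have c2 := ((Nat.coprime_primes hp hs).mpr h.2.1).mul_left ((Nat.coprime_primes hq hs).mpr h.2.2)
  have c3 : (p * q * s).divisors.card = 8 := by
    rw [c2.card_divisors_mul, c1.card_divisors_mul, hp.divisors, hq.divisors, hs.divisors,
      card_pair hp.one_lt.ne, card_pair hq.one_lt.ne, card_pair hs.one_lt.ne]
  have hw := orderOf_pow_orderOf_div (orderOf_pos z).ne'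
    (c2.mul_dvd_of_dvd_of_dvd (c1.mul_dvd_of_dvd_of_dvd a b) c)
  generalize z ^ (orderOf z / (p * q * s)) = w at hw
  generalize p * q * s = n at hw c3
  have c4 : 24 ≤ n := not_lt.mp fun e => (by decide : ∀ n < 24, n.divisors.card ≠ 8) n e c3
  set T := n.divisors.image fun d => ConjClasses.mk (w ^ d) with hT
  have c5 : T.card = 8 := by
    rw [← c3]
    refine card_image_of_injOn fun d hd e he f => ?_
    have f' := congrArg od f
    simp only [od_mk] at f'
    have hd := Nat.mem_divisors.mp hd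
    have he := Nat.mem_divisors.mp he
    rw [orderOf_pow_of_dvd (ne_zero_of_dvd_ne_zero hd.2 hd.1) (hw ▸ hd.1),
      orderOf_pow_of_dvd (ne_zero_of_dvd_ne_zero he.2 he.1) (hw ▸ he.1), hw] at f'
    rw [← Nat.div_div_self hd.1 hd.2, f', Nat.div_div_self he.1 he.2]
  have c6 := card_eq_sum (G := G) fun _ => True
  have sub : T ⊆ cls G := fun κ _ => mem_cls κ
  rw [filter_true, Nat.card_congr (Equiv.subtypeUnivEquiv fun _ : G => trivial),
    ← sum_sdiff sub] at c6
  have c7 := sum_le_card_nsmul T (fun κ => Nat.card G / cz κ) (Nat.card G / 24) fun κ hκ => by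
    obtain ⟨d, -, rfl⟩ := mem_image.mp hκ
    refine Nat.div_le_div_left (c4.trans (Nat.le_of_dvd (cz_pos _) ?_)) (by decide)
    rw [cz_mk, ← hw]
    exact Subgroup.orderOf_dvd_natCard _ (mem_CC.mpr (Commute.pow_self w d))
  have c8 := sum_le_card_nsmul (cls G \ T) (fun κ => Nat.card G / cz κ) (Nat.card G / 5) fun κ hκ =>
    Nat.div_le_div_left (h5 _ fun e => (mem_sdiff.mp hκ).2 (mem_image.mpr ⟨n, Nat.mem_divisors_self _
      (by omega), by rw [← hw, pow_orderOf_eq_one, ← e, mk_rp]⟩)) (by decide)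
  rw [card_sdiff_of_subset sub, card_cls, c5, smul_eq_mul] at c8
  rw [c5, smul_eq_mul] at c7
  have c9 := Nat.mul_le_mul_right (Nat.card G / 5) (show Nat.card (ConjClasses G) - 8 ≤ 3 by omega)
  have : 0 < Nat.card G := Nat.card_pos
  omega

variable [IsSimpleGroup G]

theorem not_solv (hna : ∃ a b : G, a * b ≠ b * a) : ¬ Group.IsSolvable G := fun h =>
  let ⟨a, b, e⟩ := hna
  e (IsSimpleGroup.comm_iff_isSolvable.mpr h a b)

theorem Ac.inv (h : Ac G ac) (hna : ∃ a b : G, a * b ≠ b * a) (h5 : ∀ x : G, x ≠ 1 → 5 ≤ cC x)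
    [DecidableEq (IrrCharacter G)] {ex : List ℕ → Bool}
    (hex : ∀ l : List ℕ, (l : Multiset ℕ) = (univ.erase (irrOne G)).val.map dg → ex l = false)
    {tb : List Ent} (ht : tb.all (Ent.ok (Nat.card (ConjClasses G)) ex) = true) :
    inv (Nat.card (ConjClasses G)) (Nat.card G) tb ac = false := by
  classical
  obtain ⟨i, e, a⟩ := ppw_spec 2 (Nat.card G) 64 0 (one_dvd _)
  obtain ⟨j, hj, b⟩ := exists_central (G := G) (a := max i 1) Nat.prime_two (by omega) (by
    rcases le_total i 1 with c | c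
    · rw [max_eq_right c, pow_one, ← even_iff_two_dvd, ← Nat.not_odd_iff_even]
      exact fun f => not_solv hna (Agent.S0205.result f)
    · rwa [max_eq_left c])
  obtain ⟨c, d⟩ := tr_prime Nat.prime_two hj
  refine List.all_eq_false.mpr ⟨_, h.mem.mpr ⟨j, c, d⟩, ?_⟩
  rw [pow_zero] at e
  simp only [e, Nat.mod_eq_zero_of_dvd ((pow_dvd_pow 2 (le_max_left i 1)).trans b), bne_self_eq_false,
    Bool.false_or, Bool.or_eq_true, Nat.blt_eq, List.any_eq_true, not_or, not_lt, bf hj, true_and]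
  rintro ⟨⟨g, S, c, T, p, t, ps⟩, f1, f2⟩
  have f3 := List.all_eq_true.mp ht _ f1
  simp only [Ent.ok, Ent.fit, Bool.and_eq_true, Nat.beq_eq, List.all_eq_true, Nat.blt_eq,
    beq_iff_eq, List.contains_iff_mem] at f2 f3
  obtain ⟨⟨rfl, rfl⟩, f2⟩ := f2
  rw [chk_sound hna (fun q hq => ?_) f3.1 hj hex] at f3
  · cases f3.2
  obtain ⟨f4, f5⟩ := f2 q hq
  obtain ⟨x, x1, x2⟩ := h.mem.mp (List.count_pos_iff.mp (f5 ▸ f4))
  simp only [tr, Prod.mk.injEq] at x2
  obtain ⟨x2, x3, x4⟩ := x2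
  have x5 := mt orderOf_eq_one_iff.mp x1
  have hq := x3 ▸ Nat.minFac_prime x5
  have hs := syl_of hq (x3 ▸ q2_eq_zero.mp x4) x5 (by
    rw [x2]; exact fun a => (Nat.le_of_dvd hq.pos a).not_gt (lt_mul_self hq.one_lt))
  refine ⟨by have := h5 x x1; omega, x, sc_of hs x2, ?_⟩
  rw [← Syl.card_mul_ee hs, ← f5, h.count]
  congr 2
  refine filter_congr fun κ _ => and_congr_right fun a => (Iff.trans ?_ (isP_rc a hq))
  refine ⟨fun b => ⟨(congrArg (·.2.2) b).symm, (congrArg (·.2.1) b).symm⟩, fun b => ?_⟩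
  obtain ⟨z, z1, z2, -⟩ := Syl.exists_cent hs ((isP_rc a hq).mp b) a
  refine Prod.ext ?_ (Prod.ext b.2.symm b.1.symm)
  exact (((cC_eq_of_isConj z1).trans (congrArg (fun H : Subgroup G => Nat.card H) z2)).trans x2).symm

theorem Ac.num (h : Ac G ac) (hna : ∃ a b : G, a * b ≠ b * a) (h5 : ∀ x : G, x ≠ 1 → 5 ≤ cC x)
    {tb : List Ent} (ht : tb.all (Ent.ok (Nat.card (ConjClasses G)) fun _ => false) = true) :
    num (Nat.card (ConjClasses G)) (Nat.card G) tb ac = false := by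
  classical
  simp only [KCl.num, Bool.or_eq_false_iff, h.inv hna h5 (fun _ _ => rfl) ht, bne_eq_false_iff_eq,
    List.any_eq_false, beq_iff_eq, and_true]
  refine ⟨⟨?_, fun r hr e => ?_⟩, fun r hr e => ?_⟩
  · have : (ac.map (·.1)).foldr Nat.lcm 1 = ((ac.map (·.1) : List ℕ) : Multiset ℕ).lcm := rfl
    rw [this]
    refine Nat.dvd_antisymm ((Nat.dvd_iff_prime_pow_dvd_dvd _ _).mpr fun p k hp a => ?_)
      (Multiset.lcm_dvd.mpr fun c hc => ?_)
    · rcases k with _ | k
      · exact one_dvd _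
      obtain ⟨z, b, c⟩ := exists_central hp k.succ_ne_zero a
      exact c.trans (Multiset.dvd_lcm (List.mem_map.mpr
        ⟨_, h.mem.mpr ⟨z, (tr_prime hp b).1, rfl⟩, rfl⟩))
    · obtain ⟨r, hr, rfl⟩ := List.mem_map.mp hc
      obtain ⟨x, -, rfl⟩ := h.mem.mp hr
      exact card_subgroup_dvd_card _
  · obtain ⟨x, x1, rfl⟩ := h.mem.mp hr
    obtain ⟨a, b, f⟩ := hna
    have hx : x ∈ center G := by
      simpa using centralizer_eq_top_iff_subset.mp (eq_top_of_card_eq _ e)
    exact f (mem_center_iff.mp (((center G).normal_of_characteristic.eq_bot_or_eq_top.resolve_left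
      fun c => x1 (mem_bot.mp (c ▸ hx))) ▸ mem_top b) a)
  · obtain ⟨x, x1, rfl⟩ := h.mem.mp hr
    have hp := Nat.minFac_prime (mt orderOf_eq_one_iff.mp x1)
    have hd := (Nat.minFac_dvd _).trans (orderOf_dvd_natCard x)
    change KCl.npp _ (orderOf x).minFac _ = ppw (orderOf x).minFac _ _ _ at e
    generalize (orderOf x).minFac = p at e hp hd
    have := Fact.mk hp
    obtain ⟨i, a, b⟩ := ppw_spec p (Nat.card G) 64 0 (one_dvd _)
    rw [pow_zero, ← e, h.npp hp] at a
    obtain ⟨S⟩ := (inferInstance : Nonempty (Sylow p G))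
    have hS : (S : Set G) = {x | PP p (orderOf x)} := Set.eq_of_subset_of_ncard_le
      (fun y hy => by simpa [PP] using IsPGroup.iff_orderOf.mp S.isPGroup' ⟨y, hy⟩) (by
        rw [← Nat.card_coe_set_eq, ← Nat.card_coe_set_eq]
        exact a.le.trans (Nat.le_of_dvd Nat.card_pos (S.pow_dvd_card_of_pow_dvd_card b)))
    have hn : (S : Subgroup G).Normal := ⟨fun y hy g => by
      change _ ∈ (S : Set G) at hy ⊢
      rw [hS] at hy ⊢
      simpa only [Set.mem_setOf_eq, orderOf_conj] using hy⟩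
    have hG : IsPGroup p G := (S.isPGroup'.of_equiv (MulEquiv.subgroupCongr
      (hn.eq_bot_or_eq_top.resolve_left (S.ne_bot_of_dvd_card hd)))).of_equiv topEquiv
    have := hG.isNilpotent
    exact not_solv hna inferInstance

theorem col3_false (hna : ∃ a b : G, a * b ≠ b * a) (hg : Nat.card G = 25920) {z : G}
    (hz : orderOf z = 3) (hc : cC z = 81) (hr : Ratl z) [DecidableEq (IrrCharacter G)] (l : List ℕ)
    (hl : (l : Multiset ℕ) = (univ.erase (irrOne G)).val.map dg) : col3 l = false := by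
  obtain ⟨lc, c1, c2⟩ := exists_list_map
    ((Multiset.coe_eq_coe.mpr (List.perm_insertionSort (· ≥ ·) l)).trans hl)
  have sm : ∀ H : IrrCharacter G → ℤ, H (irrOne G) + (lc.map H).sum = ∑ χ, H χ := fun H => by
    rw [← Multiset.sum_coe, ← Multiset.map_coe, c1, ← add_sum_erase _ _ (mem_univ (irrOne G))]; rfl
  have o1 : dg (irrOne G) = 1 := by exact_mod_cast (cv_one (irrOne G)).symm.trans (cv_irrOne 1)
  have z1 := (tr_prime Nat.prime_three hz).1
  have a1 := (sm _).trans (sum_cv_sq hr)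
  have a2 := (sm _).trans sum_dg_sq_int
  have a3 := (sm _).trans (sum_dg_cv hr z1)
  rw [cv_irrOne] at a1 a3
  rw [o1] at a2 a3
  rw [col3, frcN_eq, ← c2]
  refine vz_sound dg (cv z) lc (fun χ a => ?_) (by omega) (by omega) (by omega)
  have b1 := (mem_erase.mp (show χ ∈ (univ.erase (irrOne G)).val from c1 ▸ a)).1
  have b2 := sum_le_sum_of_subset_of_nonneg (subset_univ {χ, irrOne G})
    fun ψ _ _ => mul_self_nonneg (cv z ψ)
  rw [Finset.sum_pair b1, sum_cv_sq hr, cv_irrOne, hc, ← Int.natAbs_mul_self] at b2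
  have b3 := cv_modEq Nat.prime_three ⟨1, hz⟩ (Commute.one_right z) (by rwa [mul_one]) ratl_one χ
  have b4 := dg_dvd_cv hr χ
  rw [mul_one, cv_one] at b3
  rw [hg, hc] at b4
  refine List.mem_filter.mpr ⟨mem_irange (not_lt.mp fun e => ?_), ?_⟩
  · have := Nat.mul_le_mul e e
    omega
  simp only [Bool.and_eq_true, beq_iff_eq, Nat.blt_eq]
  exact ⟨⟨by omega, natAbs_cv_lt hna hr z1 b1⟩, Int.emod_eq_zero_of_dvd b4⟩

theorem Ac.ratl3 (h : Ac G ac) (hd : 3 ^ 4 ∣ Nat.card G) (h1 : ac.count (81, 3, 0) = 1)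
    (h2 : ∀ r ∈ ac, r.2 = (3, 0) → 81 ∣ r.1 → r.1 = 81) :
    ∃ z : G, orderOf z = 3 ∧ cC z = 81 ∧ Ratl z := by
  obtain ⟨z, a, b⟩ := exists_central Nat.prime_three (by decide) hd
  have key : ∀ k : ℕ, k.Coprime (orderOf z) → ConjClasses.mk (z ^ k) ∈
      (cls G).filter fun κ => od κ ≠ 1 ∧ (81, 3, 0) = (rc κ).tri := fun k hk => by
    have c := hk.symm.orderOf_pow.trans a
    obtain ⟨d, e⟩ := tr_prime Nat.prime_three c
    rw [mem_filter, tri_mk, od_mk, c, e, show cC (z ^ k) = 81 from h2 _ (h.mem.mpr ⟨_, d, e⟩) rfl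
      (b.trans (card_dvd_of_le fun y hy => mem_CC.mpr ((mem_CC.mp hy).pow_left k)))]
    exact ⟨mem_cls _, by decide, rfl⟩
  have c := key 1 (Nat.coprime_one_left _)
  rw [pow_one] at c
  refine ⟨z, a, ?_, fun k hk => ConjClasses.mk_eq_mk_iff_isConj.mp
    (card_le_one.mp ((h.count _).symm.trans h1).le _ c _ (key k hk))⟩
  rw [← cz_mk]
  exact (congrArg (·.1) (mem_filter.mp c).2.2).symm

end CfsgLib.KCl
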