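import Cfsg.Agent.Lib.KCl.LDef

/-!
Computations.
-/

set_option autoImplicit false
set_option Elab.async false
set_option maxRecDepth 100000

namespace CfsgLib.KCl

theorem ok9 : tb9.all (Ent.ok 9 fun _ => false) = true := by decide +kernel

theorem ok10 : tb10.all (Ent.ok 10 fun _ => false) = true := by decide +kernel

theorem ok11 : tb11.all (Ent.ok 11 fun _ => false) = true := by decide +kernel

theorem ok3 : [e3].all (Ent.ok 11 col3) = true := by decide +kernel

theorem run9 : iter 9 (leaf 9 tb9) (fun _ => false) 9 (root 9) = true := by decide +kernel

theorem run10 : iter 10 (leaf 10 tb10) (fun _ => false) 10 (root 10) = true := by decide +kernel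

end CfsgLib.KCl
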