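import Cfsg.Agent.Lib.KCl.LDef

/-!
Computations.
-/

set_option autoImplicit false
set_option Elab.async false
set_option maxRecDepth 100000

namespace CfsgLib.KCl

theorem run11_12 : part 11 (leaf 11 tb11) hs 4 12 = true := by decide +kernel

theorem run11_13 : part 11 (leaf 11 tb11) hs 4 13 = true := by decide +kernel

theorem run11_14 : part 11 (leaf 11 tb11) hs 4 14 = true := by decide +kernel

theorem run11_15 : part 11 (leaf 11 tb11) hs 4 15 = true := by decide +kernel

end CfsgLib.KCl
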